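import Cfsg.Agent.LThreeFi24.Twin
import Cfsg.Agent.LThree.Red2
import Cfsg.Agent.Fischer480.Defs
import Cfsg.Agent.Fischer3.Orth3Basic
import Cfsg.Agent.Fischer919.NormOne
import Cfsg.Agent.Fischer480.AllPieces
import Cfsg.Agent.Schreier.Balance
import Cfsg.Agent.H841.Phi_m3
import Cfsg.Agent.FastGrp
import Cfsg.Agent.Prune
set_option linter.all false

section
prune_inst 0x7f00000000000000000000000000000000000000000000000000000000000000000000000000000000000000000000000000000000000000000000000000000000000000000000000000000000000000003fffffffffffffffffffffffffffbeffbdffffffff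

-- part: LThreeFi24/CompB
section
set_option linter.all false
open scoped Cfsg.Agent.FastGrp

/-!
# Components of `X / O_{3'}(X)` and 3-transpositions (helper47, row Fi24' of S1806)

* `exists_prime_comm` : a 3-subgroup `P` acting trivially on a component of `X/O` commutes with an element of prime
  order `r ≥ 5`;
* `inC_of_le` : a component of `X/O` contained in the image of `Y ≤ X` is a component of `Y/O_{3'}(Y)`;
* `inC_of_triv` : if the transposition `d` acts trivially on the component `K`, and some transposition `b` does not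
  commute with `d`, then `K` is a component of `C_X(d)`.
-/

set_option autoImplicit false

namespace Cfsg.Agent.LThreeFi24.CompB

open Subgroup Cfsg Cfsg.Agent.SignalizersComponents Cfsg.Agent.LThree Cfsg.Agent.LThree.Red Cfsg.Agent.LThreeFi24.Comp

universe u

variable {X : Type u} [Group X] [Finite X]

/-- a power of order `r` -/
theorem exists_pow_prime {r : ℕ} (hr : r.Prime) {g : X} (h : r ∣ orderOf g) : ∃ n, orderOf (g ^ n) = r := by
  refine ⟨orderOf g / r, ?_⟩
  have h0 : orderOf g ≠ 0 := (orderOf_pos g).ne'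
  obtain ⟨m, hm⟩ := h
  rw [hm, Nat.mul_div_cancel_left m hr.pos]
  have hm0 : m ≠ 0 := by
    rintro rfl
    rw [mul_zero] at hm
    exact h0 hm
  rw [orderOf_pow' g hm0, hm, Nat.gcd_eq_right (dvd_mul_left m r), Nat.mul_div_cancel _ (Nat.pos_of_ne_zero hm0)]

theorem exists_prime_comm {O : Subgroup X} [O.Normal] (hO : (Nat.card ↥O).Coprime 3) {K : Subgroup (X ⧸ O)}
    (hK : IsComponent K) {P : Subgroup X} (hP : IsPGroup 3 ↥P)
    (hT : ∀ x ∈ P, ∀ k ∈ K, (x : X ⧸ O) * k = k * (x : X ⧸ O)) :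
    ∃ r : ℕ, r.Prime ∧ 5 ≤ r ∧ ∃ y : X, orderOf y = r ∧ ∀ x ∈ P, x * y = y * x := by
  obtain ⟨r, hr, h5, hd⟩ := Comp.exists_prime (Components.quasisimple_not_isSolvable hK.2)
  have : Fact r.Prime := ⟨hr⟩
  obtain ⟨k, hk⟩ := exists_prime_orderOf_dvd_card' r hd
  obtain ⟨g, hg, hc⟩ := exists_fixed_lift Nat.prime_three O hO hP (y := (k : X ⧸ O)) (fun x hx => by
    rw [hT x hx _ k.2, mul_inv_cancel_right])
  have h1 : r ∣ orderOf g := by
    have h2 : orderOf (g : X ⧸ O) ∣ orderOf g := orderOf_map_dvd (QuotientGroup.mk' O) g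
    rw [hg] at h2
    rwa [← hk, ← Subgroup.orderOf_coe]
  obtain ⟨n, hn⟩ := exists_pow_prime hr h1
  refine ⟨r, hr, h5, g ^ n, hn, fun x hx => ?_⟩
  have h3 : Commute x g := hc x hx
  exact (h3.pow_right n).eq

/-- a normal `p`-subgroup acts trivially on the components -/
theorem comm_of_normal {Y : Type u} [Group Y] [Finite Y] {p : ℕ} [Fact p.Prime] {K : Subgroup Y} (hK : IsComponent K)
    {N : Subgroup Y} (hN : N.Normal) (hp : IsPGroup p ↥N) {x : Y} (hx : x ∈ N) {k : Y} (hk : k ∈ K) : x * k = k * x := by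
  rcases Components.component_le_or_commutator_eq_bot hK hN.isSubnormal with h | h
  · exfalso
    apply Components.quasisimple_not_isSolvable hK.2
    have h1 : IsPGroup p ↥K := hp.to_le h
    have h2 := h1.isNilpotent
    infer_instance
  · exact (mem_centralizer_iff.1 ((commutator_eq_bot_iff_le_centralizer.1 h) hk) x hx)

/-- the same in `X / O` -/
theorem comm_of_normal' {O : Subgroup X} [O.Normal] {p : ℕ} [Fact p.Prime] {K : Subgroup (X ⧸ O)} (hK : IsComponent K)
    {N : Subgroup X} (hN : N.Normal) (hp : IsPGroup p ↥N) : ∀ x ∈ N, ∀ k ∈ K, (x : X ⧸ O) * k = k * (x : X ⧸ O) := by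
  intro x hx k hk
  exact comm_of_normal hK (hN.map (QuotientGroup.mk' O) (QuotientGroup.mk'_surjective O)) (hp.map (QuotientGroup.mk' O))
    ⟨x, hx, rfl⟩ hk

/-- **A component contained in the image of `Y`.** -/
theorem inC_of_le {p : ℕ} {K : Subgroup (X ⧸ pPrimeCore p X)} (hK : IsComponent K) (hp : p.Prime) (Y : Subgroup X)
    (hY : Comps p ↥Y) (hle : K ≤ Y.map (QuotientGroup.mk' (pPrimeCore p X))) : InC p ↥K := by
  have hO := Lib.Cores.pPrimeCore_normal (G := X) p
  let π := QuotientGroup.mk' (pPrimeCore p X)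
  let f : ↥Y →* ↥(Y.map π) := π.subgroupMap Y
  have hf : Function.Surjective f := π.subgroupMap_surjective Y
  have hk : (Nat.card ↥f.ker).Coprime p := by
    have h1 : f.ker = (pPrimeCore p X).subgroupOf Y := by
      ext y
      rw [MonoidHom.mem_ker, mem_subgroupOf, Subtype.ext_iff]
      exact QuotientGroup.eq_one_iff (y : X)
    rw [h1]
    exact card_inf_coprime (Lib.Cores.pPrimeCore_coprime (G := X) p)
  have hc : Comps p ↥(Y.map π) := (comps_iff_of_surj f hf hk).2 hY
  have hK' : IsComponent (K.subgroupOf (Y.map π)) := Components.isComponent_subgroupOf hle hK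
  have hX : pPrimeCore p (X ⧸ pPrimeCore p X) = ⊥ := Lib.Cores.pPrimeCore_quotient_pPrimeCore p
  have hi : K.subgroupOf (Y.map π) ⊓ pPrimeCore p ↥(Y.map π) = ⊥ := by
    have hO' := Lib.Cores.pPrimeCore_normal (G := ↥(Y.map π)) p
    -- the intersection, as a subgroup of `K`
    let j : ↥K →* ↥(Y.map π) := inclusion hle
    have hN : ((pPrimeCore p ↥(Y.map π)).comap j).Normal := hO'.comap j
    have hcard : (Nat.card ↥((pPrimeCore p ↥(Y.map π)).comap j)).Coprime p := by
      have h1 : Nat.card ↥((pPrimeCore p ↥(Y.map π)).comap j) ∣ Nat.card ↥(pPrimeCore p ↥(Y.map π)) := by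
        have h2 : Nat.card ↥((pPrimeCore p ↥(Y.map π)).comap j) =
            Nat.card ↥(((pPrimeCore p ↥(Y.map π)).comap j).map j) :=
          (Nat.card_congr (((pPrimeCore p ↥(Y.map π)).comap j).equivMapOfInjective j
            (inclusion_injective hle)).toEquiv)
        rw [h2]
        exact card_dvd_of_le (map_comap_le _ _)
      exact Nat.Coprime.coprime_dvd_left h1 (Lib.Cores.pPrimeCore_coprime (G := ↥(Y.map π)) p)
    have h2 := comp_normal_coprime hX hK.1 hN hcard
    rw [eq_bot_iff]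
    rintro ⟨x, hx⟩ ⟨h3, h4⟩
    have h5 : (⟨x, h3⟩ : ↥K) ∈ (pPrimeCore p ↥(Y.map π)).comap j := h4
    rw [h2, mem_bot] at h5
    have h6 : x = 1 := congrArg Subtype.val h5
    rw [mem_bot]
    exact Subtype.ext h6
  have h3 := inC_of_comps hc hK' hi
  exact (CpQuot.Congr.inC_iff (Subgroup.subgroupOfEquivOfLe hle) p).1 h3

variable {D : Set X}

/-- `d` and `b` generate `S₃` -/
theorem comm_b (h : TSet D) {O : Subgroup X} [O.Normal] {K : Subgroup (X ⧸ O)} (hK : IsComponent K) {d b : X}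
    (hd : d ∈ D) (hb : b ∈ D) (hn : ¬ Commute d b) (hdK : ∀ k ∈ K, (d : X ⧸ O) * k = k * (d : X ⧸ O)) :
    ∀ k ∈ K, (b : X ⧸ O) * k = k * (b : X ⧸ O) := by
  intro k hk
  have hT : TSet (QuotientGroup.mk' O '' D) := h.map (QuotientGroup.mk' O) (QuotientGroup.mk'_surjective O)
  have hd' : (d : X ⧸ O) ∈ QuotientGroup.mk' O '' D := ⟨d, hd, rfl⟩
  have hb' : (b : X ⧸ O) ∈ QuotientGroup.mk' O '' D := ⟨b, hb, rfl⟩
  have hd2 := hT.sq _ hd'
  have hb2 := hT.sq _ hb'
  have hbd : (b : X ⧸ O) = (d : X ⧸ O) * b * d * (b * d) := by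
    have h1 := (h.tri d hd b hb).resolve_left hn
    have h2 : d * b * d * (b * d) = b := by
      calc d * b * d * (b * d) = (b * d * b) * (b * d) := by rw [h1]
        _ = b * d * (b * b) * d := by simp only [mul_assoc]
        _ = b * (d * d) := by rw [h.sq b hb, mul_one, mul_assoc]
        _ = b := by rw [h.sq d hd, mul_one]
    have h3 := congrArg (QuotientGroup.mk' O) h2
    rw [map_mul, map_mul, map_mul, map_mul] at h3
    exact h3.symm
  set dd : X ⧸ O := (d : X ⧸ O) with hdd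
  set bb : X ⧸ O := (b : X ⧸ O) with hbb
  have inb : bb⁻¹ = bb := inv_eq_of_mul_eq_one_left hb2
  have ind : dd⁻¹ = dd := inv_eq_of_mul_eq_one_left hd2
  have nb : ∀ k ∈ K, bb * k * bb ∈ K := by
    intro k hk
    have h1 := hT.normalizes hK hb' hk
    rwa [inb] at h1
  -- `k' = b k b`, `b k = d b d b d k = d b d b k d = d b d k' b d = d b k' d b d = d k b d b d = k d b d b d`
  have h1 := nb k hk
  have e1 : bb * k = (bb * k * bb) * bb := by rw [mul_assoc, hb2, mul_one]
  have e2 : bb * (bb * k * bb) = k * bb := by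
    calc bb * (bb * k * bb) = (bb * bb) * k * bb := by simp only [mul_assoc]
      _ = k * bb := by rw [hb2, one_mul]
  calc bb * k = dd * bb * dd * (bb * (dd * k)) := by
        conv_lhs => rw [hbd]
        simp only [mul_assoc]
    _ = dd * bb * dd * ((bb * k) * dd) := by rw [hdK k hk, mul_assoc bb k dd]
    _ = dd * bb * dd * (((bb * k * bb) * bb) * dd) := by rw [← e1]
    _ = dd * bb * (dd * (bb * k * bb)) * bb * dd := by simp only [mul_assoc]
    _ = dd * (bb * (bb * k * bb)) * dd * bb * dd := by rw [hdK _ h1]; simp only [mul_assoc]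
    _ = (dd * k) * bb * dd * bb * dd := by rw [e2]; simp only [mul_assoc]
    _ = k * (dd * bb * dd * (bb * dd)) := by rw [hdK k hk]; simp only [mul_assoc]
    _ = k * bb := by rw [← hbd]

open scoped commutatorElement in
/-- **A transposition acting trivially on the component.** -/
theorem le_of_triv (h : TSet D) {O : Subgroup X} [O.Normal] (hO : (Nat.card ↥O).Coprime 3) {K : Subgroup (X ⧸ O)}
    (hK : IsComponent K) {d b : X} (hd : d ∈ D) (hb : b ∈ D) (hn : ¬ Commute d b)
    (hinv : ∀ t ∈ D, t * (d * b) * t⁻¹ = (d * b)⁻¹ → t = d ∨ t = b ∨ t = d * b * d)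
    (hdK : ∀ k ∈ K, (d : X ⧸ O) * k = k * (d : X ⧸ O)) :
    K ≤ (centralizer ({d} : Set X)).map (QuotientGroup.mk' O) := by
  have hbK := comm_b h hK hd hb hn hdK
  have hd2 := h.sq d hd
  have hb2 := h.sq b hb
  have hi := h.inv_eq hd
  have hib := h.inv_eq hb
  have hbr := (h.tri d hd b hb).resolve_left hn
  have hu3 : (d * b) ^ 3 = 1 := by
    calc (d * b) ^ 3 = (d * b * d) * (b * d * b) := by simp only [pow_succ, pow_zero, one_mul, mul_assoc]
      _ = (d * b * d) * (d * b * d) := by rw [hbr]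
      _ = d * b * (d * d) * b * d := by simp only [mul_assoc]
      _ = d * (b * b) * d := by rw [hd2, mul_one]; simp only [mul_assoc]
      _ = 1 := by rw [hb2, mul_one, hd2]
  have hP : IsPGroup 3 ↥(zpowers (d * b)) := by
    rintro ⟨x, n, rfl⟩
    refine ⟨1, Subtype.ext ?_⟩
    show ((d * b) ^ n) ^ (3 ^ 1) = 1
    rw [pow_one, ← zpow_natCast, ← zpow_mul, mul_comm, zpow_mul, zpow_natCast, hu3, one_zpow]
  have hT : ∀ x ∈ zpowers (d * b), ∀ k ∈ K, (x : X ⧸ O) * k = k * (x : X ⧸ O) := by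
    rintro _ ⟨n, rfl⟩ k hk
    have h1 : Commute ((d * b : X) : X ⧸ O) k := by
      have h2 : Commute (d : X ⧸ O) k := hdK k hk
      have h3 : Commute (b : X ⧸ O) k := hbK k hk
      exact h2.mul_left h3
    have h2 := h1.zpow_left n
    exact h2
  -- lifts
  have key : ∀ k ∈ K, ∃ (i : ℤ) (c : X), c * d = d * c ∧ c * b = b * c ∧
      (((d * b) ^ i * c : X) : X ⧸ O) = k := by
    intro k hk
    obtain ⟨g, hg, hc⟩ := exists_fixed_lift Nat.prime_three O hO hP (y := k) (fun x hx => by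
      rw [hT x hx _ hk, mul_inv_cancel_right])
    have hcu : (d * b) * g = g * (d * b) := hc _ (mem_zpowers _)
    have ht : g * d * g⁻¹ ∈ D := h.cj d hd g
    have hinv' : (g * d * g⁻¹) * (d * b) * (g * d * g⁻¹)⁻¹ = (d * b)⁻¹ := by
      have h1 : g⁻¹ * (d * b) * g = d * b := by rw [mul_assoc, hcu, inv_mul_cancel_left]
      calc (g * d * g⁻¹) * (d * b) * (g * d * g⁻¹)⁻¹ = g * (d * (g⁻¹ * (d * b) * g) * d⁻¹) * g⁻¹ := by group
        _ = g * (d * (d * b) * d⁻¹) * g⁻¹ := by rw [h1]
        _ = g * (d * b)⁻¹ * g⁻¹ := by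
            congr 2
            rw [mul_inv_rev, hi, hib, ← mul_assoc, hd2, one_mul]
        _ = (g * (d * b) * g⁻¹)⁻¹ := by group
        _ = (d * b)⁻¹ := by rw [← hcu, mul_inv_cancel_right]
    -- adjust
    have hfin : ∀ i : ℤ, (d * b) ^ i * d * ((d * b) ^ i)⁻¹ = g * d * g⁻¹ →
        ∃ (i : ℤ) (c : X), c * d = d * c ∧ c * b = b * c ∧ (((d * b) ^ i * c : X) : X ⧸ O) = k := by
      intro i hi'
      refine ⟨i, ((d * b) ^ i)⁻¹ * g, ?_, ?_, ?_⟩
      · have h1 : g * d = (d * b) ^ i * d * ((d * b) ^ i)⁻¹ * g := by rw [hi', inv_mul_cancel_right]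
        calc ((d * b) ^ i)⁻¹ * g * d = ((d * b) ^ i)⁻¹ * (g * d) := mul_assoc _ _ _
          _ = ((d * b) ^ i)⁻¹ * ((d * b) ^ i * d * ((d * b) ^ i)⁻¹ * g) := by rw [h1]
          _ = d * (((d * b) ^ i)⁻¹ * g) := by group
      · -- `c` commutes with `d` and `d b`
        have h1 : g * d = (d * b) ^ i * d * ((d * b) ^ i)⁻¹ * g := by rw [hi', inv_mul_cancel_right]
        have h2 : ((d * b) ^ i)⁻¹ * g * d = d * (((d * b) ^ i)⁻¹ * g) := by
          calc ((d * b) ^ i)⁻¹ * g * d = ((d * b) ^ i)⁻¹ * (g * d) := mul_assoc _ _ _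
            _ = ((d * b) ^ i)⁻¹ * ((d * b) ^ i * d * ((d * b) ^ i)⁻¹ * g) := by rw [h1]
            _ = d * (((d * b) ^ i)⁻¹ * g) := by group
        have h3 : Commute (((d * b) ^ i)⁻¹ * g) (d * b) := by
          have h4 : Commute (d * b) ((d * b) ^ i)⁻¹ := ((Commute.refl (d * b)).zpow_right i).inv_right
          have h5 : Commute (d * b) g := hcu
          exact (h4.mul_right h5).symm
        have h4 : Commute (((d * b) ^ i)⁻¹ * g) d := h2
        have h5 : b = d⁻¹ * (d * b) := by group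
        have h6 := (h4.inv_right.mul_right h3).eq
        rwa [← h5] at h6
      · rw [mul_inv_cancel_left]
        exact hg
    rcases hinv _ ht hinv' with h1 | h1 | h1
    · apply hfin 0
      rw [zpow_zero, one_mul, inv_one, mul_one, h1]
    · apply hfin 1
      rw [zpow_one, h1, mul_inv_rev, hi, hib]
      calc d * b * d * (b * d) = (b * d * b) * (b * d) := by rw [hbr]
        _ = b * d * (b * b) * d := by simp only [mul_assoc]
        _ = b * (d * d) := by rw [hb2, mul_one, mul_assoc]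
        _ = b := by rw [hd2, mul_one]
    · apply hfin (-1)
      rw [zpow_neg_one, inv_inv, h1, mul_inv_rev, hi, hib]
      calc b * d * d * (d * b) = b * (d * d) * (d * b) := by simp only [mul_assoc]
        _ = b * d * b := by rw [hd2, mul_one, mul_assoc]
        _ = d * b * d := hbr.symm
  -- `K` is perfect
  rw [← Components.component_commutator_self hK, commutator_le]
  intro k₁ hk₁ k₂ hk₂
  obtain ⟨i, c, hcd, hcb, rfl⟩ := key k₁ hk₁
  obtain ⟨j, e, hed, heb, rfl⟩ := key k₂ hk₂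
  have cc : ∀ {c : X}, c * d = d * c → c * b = b * c → ∀ n : ℤ, Commute ((d * b) ^ n) c := by
    intro c h1 h2 n
    have h3 : Commute c d := h1
    have h4 : Commute c b := h2
    exact ((h3.mul_right h4).zpow_right n).symm
  have hcomm : ⁅(d * b) ^ i * c, (d * b) ^ j * e⁆ = ⁅c, e⁆ := by
    have q1 := cc hcd hcb
    have q2 := cc hed heb
    have q3 : Commute ((d * b) ^ i) ((d * b) ^ j) := Commute.zpow_zpow_self (d * b) i j
    rw [commutatorElement_def, commutatorElement_def]
    have q4 : Commute ((d * b) ^ i) ((d * b) ^ j * e) := q3.mul_right (q2 i)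
    have q5 : Commute c ((d * b) ^ j) := (q1 j).symm
    have w1 : ((d * b) ^ i * c) * ((d * b) ^ j * e) * ((d * b) ^ i * c)⁻¹ = (d * b) ^ j * (c * e * c⁻¹) := by
      calc ((d * b) ^ i * c) * ((d * b) ^ j * e) * ((d * b) ^ i * c)⁻¹
          = (d * b) ^ i * (c * (d * b) ^ j) * e * c⁻¹ * ((d * b) ^ i)⁻¹ := by group
        _ = (d * b) ^ i * ((d * b) ^ j * c) * e * c⁻¹ * ((d * b) ^ i)⁻¹ := by rw [q5.eq]
        _ = ((d * b) ^ i * (d * b) ^ j) * (c * e * c⁻¹) * ((d * b) ^ i)⁻¹ := by group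
        _ = ((d * b) ^ j * (d * b) ^ i) * (c * e * c⁻¹) * ((d * b) ^ i)⁻¹ := by rw [q3.eq]
        _ = (d * b) ^ j * ((d * b) ^ i * (c * e * c⁻¹)) * ((d * b) ^ i)⁻¹ := by group
        _ = (d * b) ^ j * ((c * e * c⁻¹) * (d * b) ^ i) * ((d * b) ^ i)⁻¹ := by
            rw [(((q1 i).mul_right (q2 i)).mul_right (q1 i).inv_right).eq]
        _ = (d * b) ^ j * (c * e * c⁻¹) := by group
    rw [w1, mul_inv_rev]
    have q6 : Commute ((d * b) ^ j) (c * e * c⁻¹) := ((q1 j).mul_right (q2 j)).mul_right (q1 j).inv_right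
    calc (d * b) ^ j * (c * e * c⁻¹) * (e⁻¹ * ((d * b) ^ j)⁻¹) = ((d * b) ^ j * (c * e * c⁻¹ * e⁻¹)) * ((d * b) ^ j)⁻¹ := by
          group
      _ = ((c * e * c⁻¹ * e⁻¹) * (d * b) ^ j) * ((d * b) ^ j)⁻¹ := by
          rw [(q6.mul_right (q2 j).inv_right).eq]
      _ = c * e * c⁻¹ * e⁻¹ := by group
  have h1 : ⁅(((d * b) ^ i * c : X) : X ⧸ O), (((d * b) ^ j * e : X) : X ⧸ O)⁆ = QuotientGroup.mk' O ⁅c, e⁆ := by
    rw [← hcomm, map_commutatorElement]
    rfl
  rw [h1]
  refine mem_map_of_mem _ ?_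
  have hc' : c ∈ centralizer ({d} : Set X) := mem_centralizer_singleton_iff.2 hcd
  have he' : e ∈ centralizer ({d} : Set X) := mem_centralizer_singleton_iff.2 hed
  rw [commutatorElement_def]
  exact mul_mem (mul_mem (mul_mem hc' he') (inv_mem hc')) (inv_mem he')

theorem inC_of_triv (h : TSet D) {K : Subgroup (X ⧸ pPrimeCore 3 X)}
    (hK : IsComponent K) {d b : X} (hd : d ∈ D) (hb : b ∈ D) (hn : ¬ Commute d b)
    (hinv : ∀ t ∈ D, t * (d * b) * t⁻¹ = (d * b)⁻¹ → t = d ∨ t = b ∨ t = d * b * d)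
    (hdK : ∀ k ∈ K, (d : X ⧸ pPrimeCore 3 X) * k = k * (d : X ⧸ pPrimeCore 3 X))
    (hC : Comps 3 ↥(centralizer ({d} : Set X))) : InC 3 ↥K := by
  have hO := Lib.Cores.pPrimeCore_normal (G := X) 3
  exact inC_of_le hK Nat.prime_three _ hC
    (le_of_triv h (Lib.Cores.pPrimeCore_coprime (G := X) 3) hK hd hb hn hinv hdK)

end Cfsg.Agent.LThreeFi24.CompB
end

-- part: LThreeFi24/FG
section
set_option linter.all false
open scoped Cfsg.Agent.FastGrp

-- merged: Cfsg.Agent.LThreeFi24.Path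
section

/-!
# Paths of length 4 in the commutation structures of Fischer's theorem (helper47)

`HasPath E` : there are `a, b, c, d ∈ E` with `a b`, `b c`, `c d` not commuting and the other pairs commuting.
Every non empty set of one of the types of `Fischer480.Defs.InList` has a path; the product of the members of a path of
3-transpositions has order 5.
-/

set_option autoImplicit false

namespace Cfsg.Agent.LThreeFi24.Path

open Cfsg Cfsg.Agent.Fischer480.Defs
open Cfsg.Agent.Fischer3.Orth3Basic (Form)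
open LinearMap (BilinForm)

universe u

variable {G : Type u} [Group G]

/-- a path of length 4 in the non commuting graph -/
def HasPath (E : Set G) : Prop :=
  ∃ a ∈ E, ∃ b ∈ E, ∃ c ∈ E, ∃ d ∈ E, ¬ Commute a b ∧ ¬ Commute b c ∧ ¬ Commute c d ∧
    Commute a c ∧ Commute a d ∧ Commute b d

theorem HasPath.mono {E E' : Set G} (h : HasPath E) (hE : E ⊆ E') : HasPath E' := by
  obtain ⟨a, ha, b, hb, c, hc, d, hd, h⟩ := h
  exact ⟨a, hE ha, b, hE hb, c, hE hc, d, hE hd, h⟩

theorem of_sym {n : ℕ} (hn : 5 ≤ n) {E : Set G} (h : IsSym n E) : HasPath E := by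
  obtain ⟨f, -, h2, -, h4⟩ := h
  let p : ℕ → ℕ → Finset (Fin n) := fun i j => if h : i < n ∧ j < n then {⟨i, h.1⟩, ⟨j, h.2⟩} else ∅
  have hp : ∀ {i j : ℕ} (hi : i < n) (hj : j < n), p i j = {⟨i, hi⟩, ⟨j, hj⟩} := fun hi hj => dif_pos ⟨hi, hj⟩
  have hc : ∀ {i j : ℕ}, i < 5 → j < 5 → i ≠ j → (p i j).card = 2 := by
    intro i j hi hj hij
    rw [hp (by omega) (by omega), Finset.card_pair]
    intro he
    exact hij (congrArg Fin.val he)
  obtain ⟨a, ha, fa⟩ := h4 (p 0 1) (hc (by norm_num) (by norm_num) (by norm_num))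
  obtain ⟨b, hb, fb⟩ := h4 (p 1 2) (hc (by norm_num) (by norm_num) (by norm_num))
  obtain ⟨c, hc', fc⟩ := h4 (p 2 3) (hc (by norm_num) (by norm_num) (by norm_num))
  obtain ⟨d, hd, fd⟩ := h4 (p 3 4) (hc (by norm_num) (by norm_num) (by norm_num))
  have key : ∀ {i j k l : ℕ} {x y : G}, x ∈ E → y ∈ E → i < 5 → j < 5 → k < 5 → l < 5 → f x = p i j → f y = p k l →
      (Commute x y ↔ ((i = k ∧ j = l) ∨ (i = l ∧ j = k)) ∨ (i ≠ k ∧ i ≠ l ∧ j ≠ k ∧ j ≠ l)) := by
    intro i j k l x y hx hy hi hj hk hl fx fy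
    rw [h2 x hx y hy, fx, fy, hp (by omega) (by omega), hp (by omega) (by omega)]
    apply or_congr
    · constructor
      · intro he
        have h5 : (⟨i, by omega⟩ : Fin n) ∈ ({⟨k, by omega⟩, ⟨l, by omega⟩} : Finset (Fin n)) := by rw [← he]; simp
        have h6 : (⟨j, by omega⟩ : Fin n) ∈ ({⟨k, by omega⟩, ⟨l, by omega⟩} : Finset (Fin n)) := by rw [← he]; simp
        have h7 : (⟨k, by omega⟩ : Fin n) ∈ ({⟨i, by omega⟩, ⟨j, by omega⟩} : Finset (Fin n)) := by rw [he]; simp
        have h8 : (⟨l, by omega⟩ : Fin n) ∈ ({⟨i, by omega⟩, ⟨j, by omega⟩} : Finset (Fin n)) := by rw [he]; simp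
        simp only [Finset.mem_insert, Finset.mem_singleton, Fin.mk.injEq] at h5 h6 h7 h8
        omega
      · rintro (⟨rfl, rfl⟩ | ⟨rfl, rfl⟩)
        · rfl
        · exact Finset.pair_comm _ _
    · rw [Finset.disjoint_left]
      simp only [Finset.mem_insert, Finset.mem_singleton, forall_eq_or_imp, forall_eq, Fin.mk.injEq, not_or]
      (clear * -; tauto)
  refine ⟨a, ha, b, hb, c, hc', d, hd, ?_, ?_, ?_, ?_, ?_, ?_⟩
  · rw [key ha hb (by norm_num) (by norm_num) (by norm_num) (by norm_num) fa fb]; decide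
  · rw [key hb hc' (by norm_num) (by norm_num) (by norm_num) (by norm_num) fb fc]; decide
  · rw [key hc' hd (by norm_num) (by norm_num) (by norm_num) (by norm_num) fc fd]; decide
  · rw [key ha hc' (by norm_num) (by norm_num) (by norm_num) (by norm_num) fa fc]; decide
  · rw [key ha hd (by norm_num) (by norm_num) (by norm_num) (by norm_num) fa fd]; decide
  · rw [key hb hd (by norm_num) (by norm_num) (by norm_num) (by norm_num) fb fd]; decide

/-! ### Alternating forms over `F_2` -/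

section Two

variable {V : Type*} [AddCommGroup V] [Module (ZMod 2) V] (B : BilinForm (ZMod 2) V)

theorem bal {R M : Type*} [CommRing R] [AddCommGroup M] [Module R M] (B : BilinForm R M) (v w x : M) :
    B (v + w) x = B v x + B w x := LinearMap.map_add₂ B v w x

theorem two_cases : ∀ a : ZMod 2, a = 0 ∨ a = 1 := by decide

theorem exists_one (hnd : ∀ v, (∀ w, B v w = 0) → v = 0) {v : V} (hv : v ≠ 0) : ∃ w, B v w = 1 := by
  by_contra h
  push Not at h
  exact hv (hnd v fun w => (two_cases _).resolve_right (h w))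

/-- the projection onto the orthogonal complement of a hyperbolic pair -/
theorem proj {v1 v2 : V} (hs : ∀ v w, B v w = B w v) (ha : ∀ v, B v v = 0) (h12 : B v1 v2 = 1) (x : V) :
    B v1 (x + (B x v2 • v1 + B x v1 • v2)) = 0 ∧ B v2 (x + (B x v2 • v1 + B x v1 • v2)) = 0 := by
  constructor
  · rw [map_add, map_add, map_smul, map_smul, ha, h12, hs v1 x, smul_zero, zero_add, smul_eq_mul, mul_one]
    exact CharTwo.add_self_eq_zero _
  · rw [map_add, map_add, map_smul, map_smul, ha, hs v2 v1, h12, hs v2 x, smul_zero, add_zero, smul_eq_mul, mul_one]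
    exact CharTwo.add_self_eq_zero _

theorem exists_perp (hs : ∀ v w, B v w = B w v) (ha : ∀ v, B v v = 0) [Finite V] (hV : 4 < Nat.card V) {v1 v2 : V}
    (h12 : B v1 v2 = 1) : ∃ w, w ≠ 0 ∧ B v1 w = 0 ∧ B v2 w = 0 := by
  by_contra hc
  push Not at hc
  have h1 : ∀ x : V, ∃ p : ZMod 2 × ZMod 2, x = p.1 • v1 + p.2 • v2 := by
    intro x
    obtain ⟨h2, h3⟩ := proj B hs ha h12 x
    refine ⟨(B x v2, B x v1), ?_⟩
    by_contra h4
    refine hc _ ?_ h2 h3
    intro h5
    apply h4
    have h6 : x = -(B x v2 • v1 + B x v1 • v2) := eq_neg_of_add_eq_zero_left h5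
    have h7 : ∀ v : V, -v = v := by
      intro v
      have : (-1 : ZMod 2) • v = (1 : ZMod 2) • v := by rw [show (-1 : ZMod 2) = 1 by decide]
      rwa [neg_smul, one_smul] at this
    rw [h7] at h6
    exact h6
  choose g hg using h1
  have h2 : Function.Injective g := by
    intro x y hxy
    rw [hg x, hg y, hxy]
  have h3 := Nat.card_le_card_of_injective g h2
  rw [Nat.card_prod, Nat.card_zmod] at h3
  omega

end Two

theorem card_vec (n : ℕ) (hn : 2 ≤ n) : 4 < Nat.card (Fin (2 * n) → ZMod 2) := by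
  rw [Nat.card_fun, Nat.card_zmod, Nat.card_eq_fintype_card, Fintype.card_fin]
  calc 4 < 2 ^ 4 := by norm_num
    _ ≤ 2 ^ (2 * n) := Nat.pow_le_pow_right (by norm_num) (by omega)

theorem of_sp {n : ℕ} (hn : 2 ≤ n) {E : Set G} (h : IsSp n E) : HasPath E := by
  obtain ⟨B, f, hB, hnd, -, h2, -, h4⟩ := h
  have ha : ∀ v, B v v = 0 := hB
  have hs : ∀ v w, B v w = B w v := by
    intro v w
    have h5 := ha (v + w)
    rw [bal, map_add, map_add, ha, ha, zero_add, add_zero] at h5
    have h6 : B v w = - B w v := eq_neg_of_add_eq_zero_left h5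
    rw [h6, CharTwo.neg_eq]
  have hnd' : ∀ v, (∀ w, B v w = 0) → v = 0 := fun v hv => hnd.1 v hv
  obtain ⟨v1, hv1⟩ : ∃ v : Fin (2 * n) → ZMod 2, v ≠ 0 := by
    refine ⟨fun _ => 1, fun h0 => ?_⟩
    have := congrFun h0 ⟨0, by omega⟩
    exact one_ne_zero this
  obtain ⟨v2, h12⟩ := exists_one B hnd' hv1
  obtain ⟨w, hw, hw1, hw2⟩ := exists_perp B hs ha (card_vec n hn) h12
  obtain ⟨y, hy⟩ := exists_one B hnd' hw
  obtain ⟨hp1, hp2⟩ := proj B hs ha h12 y
  set v4 := y + (B y v2 • v1 + B y v1 • v2) with hv4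
  have hw4 : B w v4 = 1 := by
    rw [hv4, map_add, map_add, map_smul, map_smul, hs w v1, hs w v2, hw1, hw2, smul_zero, smul_zero, add_zero, add_zero,
      hy]
  have h13 : B v1 (v1 + w) = 0 := by rw [map_add, ha, hw1, add_zero]
  have h23 : B v2 (v1 + w) = 1 := by rw [map_add, hs v2 v1, h12, hw2, add_zero]
  have h34 : B (v1 + w) v4 = 1 := by rw [bal, hp1, hw4, zero_add]
  have hv20 : v2 ≠ 0 := by rintro rfl; rw [map_zero] at h12; exact absurd h12 (by decide)
  have hv30 : v1 + w ≠ 0 := by intro h0; rw [h0, map_zero] at h23; exact absurd h23 (by decide)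
  have hv40 : v4 ≠ 0 := by intro h0; rw [h0, map_zero] at h34; exact absurd h34 (by decide)
  obtain ⟨a, ha', fa⟩ := h4 v1 hv1
  obtain ⟨b, hb, fb⟩ := h4 v2 hv20
  obtain ⟨c, hc, fc⟩ := h4 _ hv30
  obtain ⟨d, hd, fd⟩ := h4 v4 hv40
  refine ⟨a, ha', b, hb, c, hc, d, hd, ?_, ?_, ?_, ?_, ?_, ?_⟩
  · rw [h2 a ha' b hb, fa, fb, h12]; decide
  · rw [h2 b hb c hc, fb, fc, h23]; decide
  · rw [h2 c hc d hd, fc, fd, h34]; decide
  · rw [h2 a ha' c hc, fa, fc, h13]
  · rw [h2 a ha' d hd, fa, fd, hp1]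
  · rw [h2 b hb d hd, fb, fd, hp2]

theorem of_o {n : ℕ} (hn : 3 ≤ n) {E : Set G} (hE : E.Nonempty) (h : IsO n E) : HasPath E := by
  obtain ⟨Q, f, hnd, hq, h2, -, h4⟩ := h
  set B : BilinForm (ZMod 2) (Fin (2 * n) → ZMod 2) := Q.polarBilin with hBdef
  have hBp : ∀ v w, B v w = QuadraticMap.polar Q v w := fun _ _ => rfl
  have hs : ∀ v w, B v w = B w v := fun v w => by rw [hBp, hBp, QuadraticMap.polar_comm]
  have ha : ∀ v, B v v = 0 := by
    intro v
    rw [hBp, QuadraticMap.polar_self]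
    have : ∀ a : ZMod 2, (2 : ℕ) • a = 0 := by decide
    exact this _
  have hQ : ∀ v w, Q (v + w) = Q v + Q w + B v w := by
    intro v w
    rw [hBp, QuadraticMap.polar]
    ring
  have hnd' : ∀ v, (∀ w, B v w = 0) → v = 0 := fun v hv => hnd v hv
  obtain ⟨e, he⟩ := hE
  set v1 := f e with hv1
  have q1 : Q v1 = 1 := hq e he
  have hv10 : v1 ≠ 0 := by
    intro h0
    rw [h0, QuadraticMap.map_zero] at q1
    exact absurd q1 (by decide)
  obtain ⟨w0, hw0⟩ := exists_one B hnd' hv10
  -- a vector `v2` with `B v1 v2 = 1`, `Q v2 = 1`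
  obtain ⟨v2, h12, q2⟩ : ∃ v2, B v1 v2 = 1 ∧ Q v2 = 1 := by
    rcases two_cases (Q w0) with h5 | h5
    swap
    · exact ⟨w0, hw0, h5⟩
    -- `u` orthogonal to `v1`, `w0` with `Q u = 1`
    by_contra hc
    push Not at hc
    have h6 : ∀ u, B v1 u = 0 → B w0 u = 0 → Q u = 0 := by
      intro u hu1 hu2
      rcases two_cases (Q u) with h7 | h7
      · exact h7
      · exfalso
        refine hc (w0 + u) (by rw [map_add, hw0, hu1, add_zero]) ?_
        rw [hQ, h5, h7, hu2, zero_add, add_zero]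
    obtain ⟨u, hu0, hu1, hu2⟩ := exists_perp B hs ha (card_vec n (by omega)) hw0
    obtain ⟨y, hy⟩ := exists_one B hnd' hu0
    obtain ⟨hp1, hp2⟩ := proj B hs ha hw0 y
    set u' := y + (B y w0 • v1 + B y v1 • w0) with hu'
    have h7 : B u u' = 1 := by
      rw [hu', map_add, map_add, map_smul, map_smul, hs u v1, hs u w0, hu1, hu2, smul_zero, smul_zero, add_zero, add_zero,
        hy]
    have h8 := h6 (u + u') (by rw [map_add, hu1, hp1, add_zero]) (by rw [map_add, hu2, hp2, add_zero])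
    rw [hQ, h6 u hu1 hu2, h6 u' hp1 hp2, h7] at h8
    exact absurd h8 (by decide)
  -- a singular vector `w` orthogonal to `v1`, `v2`
  obtain ⟨w, hw, hw1, hw2, qw⟩ : ∃ w, w ≠ 0 ∧ B v1 w = 0 ∧ B v2 w = 0 ∧ Q w = 0 := by
    by_contra hc
    push Not at hc
    have h6 : ∀ u, u ≠ 0 → B v1 u = 0 → B v2 u = 0 → Q u = 1 := fun u h0 hu1 hu2 =>
      (two_cases (Q u)).resolve_left (hc u h0 hu1 hu2)
    obtain ⟨u, hu0, hu1, hu2⟩ := exists_perp B hs ha (card_vec n (by omega)) h12
    obtain ⟨y, hy⟩ := exists_one B hnd' hu0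
    obtain ⟨hp1, hp2⟩ := proj B hs ha h12 y
    set u' := y + (B y v2 • v1 + B y v1 • v2) with hu'
    have h7 : B u u' = 1 := by
      rw [hu', map_add, map_add, map_smul, map_smul, hs u v1, hs u v2, hu1, hu2, smul_zero, smul_zero, add_zero, add_zero,
        hy]
    -- a vector orthogonal to `v1, v2, u, u'`
    obtain ⟨t, ht0, ht1, ht2, ht3, ht4⟩ : ∃ t, t ≠ 0 ∧ B v1 t = 0 ∧ B v2 t = 0 ∧ B u t = 0 ∧ B u' t = 0 := by
      by_contra hc2
      push Not at hc2
      have h8 : ∀ x : Fin (2 * n) → ZMod 2, ∃ p : (ZMod 2 × ZMod 2) × (ZMod 2 × ZMod 2),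
          x = (p.1.1 • v1 + p.1.2 • v2) + (p.2.1 • u + p.2.2 • u') := by
        intro x
        obtain ⟨a1, a2⟩ := proj B hs ha h12 x
        set x' := x + (B x v2 • v1 + B x v1 • v2) with hx'
        obtain ⟨b1, b2⟩ := proj B hs ha h7 x'
        set x'' := x' + (B x' u' • u + B x' u • u') with hx''
        have c1 : B v1 x'' = 0 := by
          rw [hx'', map_add (B v1) x' _, a1, map_add, map_smul, map_smul, hu1, hp1, smul_zero, smul_zero, add_zero,
            add_zero]
        have c2 : B v2 x'' = 0 := by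
          rw [hx'', map_add (B v2) x' _, a2, map_add, map_smul, map_smul, hu2, hp2, smul_zero, smul_zero, add_zero,
            add_zero]
        have c3 : x'' = 0 := by
          by_contra c3
          exact hc2 x'' c3 c1 c2 b1 b2
        refine ⟨((B x v2, B x v1), (B x' u', B x' u)), ?_⟩
        have c4 : x + (B x v2 • v1 + B x v1 • v2) + (B x' u' • u + B x' u • u') = 0 := c3
        have h9 : ∀ v : Fin (2 * n) → ZMod 2, -v = v := by
          intro v
          have : (-1 : ZMod 2) • v = (1 : ZMod 2) • v := by rw [show (-1 : ZMod 2) = 1 by decide]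
          rwa [neg_smul, one_smul] at this
        rw [add_assoc] at c4
        have c5 := eq_neg_of_add_eq_zero_left c4
        rw [h9] at c5
        exact c5
      choose g hg using h8
      have h9 : Function.Injective g := by
        intro x y hxy
        rw [hg x, hg y, hxy]
      have h10 := Nat.card_le_card_of_injective g h9
      rw [Nat.card_prod, Nat.card_prod, Nat.card_zmod, Nat.card_fun, Nat.card_zmod, Nat.card_eq_fintype_card,
        Fintype.card_fin] at h10
      have h11 : 2 ^ 6 ≤ 2 ^ (2 * n) := Nat.pow_le_pow_right (by norm_num) (by omega)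
      omega
    have q1' := h6 u hu0 hu1 hu2
    have q2' := h6 t ht0 ht1 ht2
    have h8 : u + t ≠ 0 := by
      intro h0
      have h9 : B u' (u + t) = 0 := by rw [h0, map_zero]
      rw [map_add, hs u' u, h7, ht4] at h9
      exact absurd h9 (by decide)
    have h9 := h6 (u + t) h8 (by rw [map_add, hu1, ht1, add_zero]) (by rw [map_add, hu2, ht2, add_zero])
    rw [hQ, q1', q2', ht3] at h9
    exact absurd h9 (by decide)
  -- `v4`
  obtain ⟨v4, h14, h24, hw4, q4⟩ : ∃ v4, B v1 v4 = 0 ∧ B v2 v4 = 0 ∧ B w v4 = 1 ∧ Q v4 = 1 := by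
    obtain ⟨y, hy⟩ := exists_one B hnd' hw
    obtain ⟨hp1, hp2⟩ := proj B hs ha h12 y
    set u' := y + (B y v2 • v1 + B y v1 • v2) with hu'
    have h7 : B w u' = 1 := by
      rw [hu', map_add, map_add, map_smul, map_smul, hs w v1, hs w v2, hw1, hw2, smul_zero, smul_zero, add_zero, add_zero,
        hy]
    rcases two_cases (Q u') with h8 | h8
    · refine ⟨u' + w, by rw [map_add, hp1, hw1, add_zero], by rw [map_add, hp2, hw2, add_zero],
        by rw [map_add, h7, ha, add_zero], ?_⟩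
      rw [hQ, h8, qw, hs u' w, h7, zero_add, zero_add]
    · exact ⟨u', hp1, hp2, h7, h8⟩
  have h13 : B v1 (v1 + w) = 0 := by rw [map_add, ha, hw1, add_zero]
  have h23 : B v2 (v1 + w) = 1 := by rw [map_add, hs v2 v1, h12, hw2, add_zero]
  have h34 : B (v1 + w) v4 = 1 := by rw [bal, h14, hw4, zero_add]
  have q3 : Q (v1 + w) = 1 := by rw [hQ, q1, qw, hw1, add_zero, add_zero]
  obtain ⟨a, ha', fa⟩ := h4 v1 q1
  obtain ⟨b, hb, fb⟩ := h4 v2 q2
  obtain ⟨c, hc, fc⟩ := h4 _ q3
  obtain ⟨d, hd, fd⟩ := h4 v4 q4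
  refine ⟨a, ha', b, hb, c, hc, d, hd, ?_, ?_, ?_, ?_, ?_, ?_⟩
  · rw [h2 a ha' b hb, fa, fb, ← hBp, h12]; decide
  · rw [h2 b hb c hc, fb, fc, ← hBp, h23]; decide
  · rw [h2 c hc d hd, fc, fd, ← hBp, h34]; decide
  · rw [h2 a ha' c hc, fa, fc, ← hBp, h13]
  · rw [h2 a ha' d hd, fa, fd, ← hBp, h14]
  · rw [h2 b hb d hd, fb, fd, ← hBp, h24]

/-! ### Unitary type -/

theorem herm_append {F : Type} [Field F] {m : ℕ} (a b : Fin 4 → F) :
    hermForm (4 + m) F 2 (Fin.append a 0) (Fin.append b 0) =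
      a 0 * b 0 ^ 2 + a 1 * b 1 ^ 2 + a 2 * b 2 ^ 2 + a 3 * b 3 ^ 2 := by
  unfold hermForm
  rw [Fin.sum_univ_add, Fin.sum_univ_four]
  simp only [Fin.append_left, Fin.append_right, Pi.zero_apply, zero_mul, Finset.sum_const_zero, add_zero]

theorem herm_smul {F : Type} [Field F] {n : ℕ} (c d : F) (u v : Fin n → F) :
    hermForm n F 2 (c • u) (d • v) = c * d ^ 2 * hermForm n F 2 u v := by
  unfold hermForm
  rw [Finset.mul_sum]
  refine Finset.sum_congr rfl fun i _ => ?_
  simp only [Pi.smul_apply, smul_eq_mul]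
  ring

theorem of_u {n : ℕ} (hn : 4 ≤ n) {E : Set G} (h : IsU n E) : HasPath E := by
  obtain ⟨F, _, _, f, hF, -, -, h2, -, h4⟩ := h
  obtain ⟨m, rfl⟩ := Nat.exists_eq_add_of_le hn
  have two : (2 : F) = 0 := by
    have h5 : ((Fintype.card F : ℕ) : F) = 0 := FiniteField.cast_card_eq_zero F
    rw [hF] at h5
    have h6 : (2 : F) * 2 = 0 := by
      have : (2 : F) * 2 = ((4 : ℕ) : F) := by norm_num
      rw [this, h5]
    exact (mul_self_eq_zero.1 h6)
  obtain ⟨w, hw⟩ : ∃ w : F, w ≠ 0 ∧ w ≠ 1 := by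
    by_contra hc
    push Not at hc
    have h5 : Fintype.card F ≤ 2 := by
      classical
      have h6 : (Finset.univ : Finset F) ⊆ {0, 1} := by
        intro x _
        by_cases hx : x = 0
        · simp only [hx, _root_.Finset.mem_insert, _root_.Finset.mem_singleton, _root_.zero_ne_one, _root_.or_false]
        · simp only [hc x hx, _root_.Finset.mem_insert, _root_.one_ne_zero, _root_.Finset.mem_singleton, _root_.or_true]
      calc Fintype.card F = (Finset.univ : Finset F).card := rfl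
        _ ≤ ({0, 1} : Finset F).card := Finset.card_le_card h6
        _ ≤ 2 := Finset.card_le_two
    omega
  have w3 : w * w ^ 2 = 1 := by
    have h5 := FiniteField.pow_card w
    rw [hF] at h5
    have h6 : w * (w * w ^ 2) = w * 1 := by rw [mul_one]; calc w * (w * w ^ 2) = w ^ 4 := by ring
      _ = w := h5
    exact mul_left_cancel₀ hw.1 h6
  have w1 : 1 + w ^ 2 ≠ 0 := by
    intro h0
    have h5 : (w - 1) * (w - 1) = 0 := by linear_combination h0 - w * two
    have h6 := mul_self_eq_zero.1 h5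
    exact hw.2 (sub_eq_zero.1 h6)
  let u1 : Fin 4 → F := ![1, 1, 0, 0]
  let u2 : Fin 4 → F := ![0, 1, 1, 0]
  let u3 : Fin 4 → F := ![0, 0, 1, 1]
  let u4 : Fin 4 → F := ![1, 1, 1, w]
  have ne0 : ∀ {a : Fin 4 → F} (i : Fin 4), a i ≠ 0 → (Fin.append a 0 : Fin (4 + m) → F) ≠ 0 := by
    intro a i hi h0
    apply hi
    have := congrFun h0 (Fin.castAdd m i)
    rwa [Fin.append_left] at this
  have get : ∀ a : Fin 4 → F, ∀ i : Fin 4, a i ≠ 0 → a 0 * a 0 ^ 2 + a 1 * a 1 ^ 2 + a 2 * a 2 ^ 2 + a 3 * a 3 ^ 2 = 0 →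
      ∃ x ∈ E, ∃ c : F, c ≠ 0 ∧ (Fin.append a 0 : Fin (4 + m) → F) = c • f x := by
    intro a i hi h0
    obtain ⟨x, hx, c, hc⟩ := h4 _ (ne0 i hi) (by rw [herm_append, h0])
    refine ⟨x, hx, c, ?_, hc⟩
    rintro rfl
    rw [zero_smul] at hc
    exact ne0 i hi hc
  obtain ⟨a, ha, ca, ca0, fa⟩ := get u1 0 (by simp [u1]) (by simp only [u1, _root_.Fin.isValue, _root_.Matrix.cons_val_zero, _root_.one_pow, _root_.mul_one, _root_.Matrix.cons_val_one, _root_.Matrix.cons_val, _root_.ne_eq, _root_.OfNat.ofNat_ne_zero, _root_.not_false_eq_true, _root_.zero_pow, _root_.MulZeroClass.mul_zero, _root_.add_zero]; linear_combination two)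
  obtain ⟨b, hb, cb, cb0, fb⟩ := get u2 1 (by simp [u2]) (by simp only [u2, _root_.Fin.isValue, _root_.Matrix.cons_val_zero, _root_.ne_eq, _root_.OfNat.ofNat_ne_zero, _root_.not_false_eq_true, _root_.zero_pow, _root_.MulZeroClass.mul_zero, _root_.Matrix.cons_val_one, _root_.one_pow, _root_.mul_one, _root_.zero_add, _root_.Matrix.cons_val, _root_.add_zero]; linear_combination two)
  obtain ⟨c, hc, cc, cc0, fc⟩ := get u3 2 (by simp [u3]) (by simp only [u3, _root_.Fin.isValue, _root_.Matrix.cons_val_zero, _root_.ne_eq, _root_.OfNat.ofNat_ne_zero, _root_.not_false_eq_true, _root_.zero_pow, _root_.MulZeroClass.mul_zero, _root_.Matrix.cons_val_one, _root_.add_zero, _root_.Matrix.cons_val, _root_.one_pow, _root_.mul_one, _root_.zero_add]; linear_combination two)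
  obtain ⟨d, hd, cd, cd0, fd⟩ := get u4 0 (by simp [u4]) (by
    show (1 : F) * 1 ^ 2 + 1 * 1 ^ 2 + 1 * 1 ^ 2 + w * w ^ 2 = 0
    rw [w3]; linear_combination 2 * two)
  have key : ∀ {x y : G} {c1 c2 : F} {v1 v2 : Fin 4 → F}, x ∈ E → y ∈ E → c1 ≠ 0 → c2 ≠ 0 →
      (Fin.append v1 0 : Fin (4 + m) → F) = c1 • f x → (Fin.append v2 0 : Fin (4 + m) → F) = c2 • f y →
      (Commute x y ↔ v1 0 * v2 0 ^ 2 + v1 1 * v2 1 ^ 2 + v1 2 * v2 2 ^ 2 + v1 3 * v2 3 ^ 2 = 0) := by
    intro x y c1 c2 v1 v2 hx hy h1 h2' e1 e2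
    rw [h2 x hx y hy, ← herm_append (m := m), e1, e2, herm_smul]
    constructor
    · intro h0; rw [h0, mul_zero]
    · intro h0
      exact (mul_eq_zero.1 h0).resolve_left (mul_ne_zero h1 (pow_ne_zero 2 h2'))
  refine ⟨a, ha, b, hb, c, hc, d, hd, ?_, ?_, ?_, ?_, ?_, ?_⟩
  · rw [key ha hb ca0 cb0 fa fb]; simp [u1, u2]
  · rw [key hb hc cb0 cc0 fb fc]; simp [u2, u3]
  · rw [key hc hd cc0 cd0 fc fd]
    show ¬ ((0 : F) * 1 ^ 2 + 0 * 1 ^ 2 + 1 * 1 ^ 2 + 1 * w ^ 2 = 0)
    intro h0
    apply w1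
    linear_combination h0
  · rw [key ha hc ca0 cc0 fa fc]; simp [u1, u3]
  · rw [key ha hd ca0 cd0 fa fd]
    show (1 : F) * 1 ^ 2 + 1 * 1 ^ 2 + 0 * 1 ^ 2 + 0 * w ^ 2 = 0
    linear_combination two
  · rw [key hb hd cb0 cd0 fb fd]
    show (0 : F) * 1 ^ 2 + 1 * 1 ^ 2 + 1 * 1 ^ 2 + 0 * w ^ 2 = 0
    linear_combination two

/-! ### Orthogonal type over `F_3` -/

/-- extension of an orthogonal family with non zero norms -/
theorem ext_aux {V : Type*} [AddCommGroup V] [Module (ZMod 3) V] {B : BilinForm (ZMod 3) V} (_F : Form B) {k : ℕ}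
    (u : Fin k → V) (ho : ∀ i j, i ≠ j → B (u i) (u j) = 0) (hn : ∀ i, B (u i) (u i) ≠ 0) :
    ∀ t ∈ Submodule.span (ZMod 3) (Set.range u), (∀ i, B (u i) t = 0) → t ∈ (⊥ : Submodule (ZMod 3) V) := by
  intro t ht h0
  obtain ⟨c, rfl⟩ := (Submodule.mem_span_range_iff_exists_fun (ZMod 3)).1 ht
  have hc : ∀ i, c i = 0 := by
    intro i
    have h1 := h0 i
    rw [map_sum] at h1
    rw [Finset.sum_eq_single i] at h1
    · rw [map_smul, smul_eq_mul] at h1
      exact (mul_eq_zero.1 h1).resolve_right (hn i)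
    · intro j _ hj
      rw [map_smul, ho i j (Ne.symm hj), smul_zero]
    · intro hi
      exact absurd (Finset.mem_univ i) hi
  rw [Submodule.mem_bot]
  exact Finset.sum_eq_zero fun i _ => by rw [hc i, zero_smul]

theorem of_r {n : ℕ} (hn : 6 ≤ n) {E : Set G} (h : IsR n E) : HasPath E := by
  obtain ⟨B, f, hsymm, hnd, -, h2, -, h4⟩ := h
  have F : Form B := ⟨fun v w => hsymm.eq v w, fun v hv => hnd.1 v hv⟩
  have hfr : Module.finrank (ZMod 3) (Fin n → ZMod 3) = n := by rw [Module.finrank_fin_fun]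
  have hbot : Module.finrank (ZMod 3) (⊥ : Submodule (ZMod 3) (Fin n → ZMod 3)) = 0 := finrank_bot _ _
  obtain ⟨p0, -, n0⟩ := F.exists_norm_one (k := 0) Fin.elim0 ⊥
    (ext_aux F _ (fun i => i.elim0) (fun i => i.elim0)) (by rw [hbot, hfr]; omega)
  obtain ⟨p1, o1, n1⟩ := F.exists_norm_one (k := 1) ![p0] ⊥
    (ext_aux F _ (fun i j hij => absurd (Subsingleton.elim i j) hij) (fun i => by
      fin_cases i; show B p0 p0 ≠ 0; rw [n0]; decide)) (by rw [hbot, hfr]; omega)
  have o01 : B p0 p1 = 0 := o1 0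
  obtain ⟨p2, o2, n2⟩ := F.exists_norm_one (k := 2) ![p0, p1] ⊥
    (ext_aux F _ (fun i j hij => by
      fin_cases i <;> fin_cases j
      · exact absurd rfl hij
      · exact o01
      · show B p1 p0 = 0; rw [F.symm]; exact o01
      · exact absurd rfl hij) (fun i => by
      fin_cases i
      · show B p0 p0 ≠ 0; rw [n0]; decide
      · show B p1 p1 ≠ 0; rw [n1]; decide)) (by rw [hbot, hfr]; omega)
  have o02 : B p0 p2 = 0 := o2 0
  have o12 : B p1 p2 = 0 := o2 1
  obtain ⟨q, oq, nq⟩ := Fischer919.NormOne.exists_norm_neg_one F (k := 3) ![p0, p1, p2] ⊥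
    (ext_aux F _ (fun i j hij => by
      fin_cases i <;> fin_cases j
      · exact absurd rfl hij
      · exact o01
      · exact o02
      · show B p1 p0 = 0; rw [F.symm]; exact o01
      · exact absurd rfl hij
      · exact o12
      · show B p2 p0 = 0; rw [F.symm]; exact o02
      · show B p2 p1 = 0; rw [F.symm]; exact o12
      · exact absurd rfl hij) (fun i => by
      fin_cases i
      · show B p0 p0 ≠ 0; rw [n0]; decide
      · show B p1 p1 ≠ 0; rw [n1]; decide
      · show B p2 p2 ≠ 0; rw [n2]; decide)) (by rw [hbot, hfr]; omega)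
  have oq0 : B p0 q = 0 := oq 0
  have oq1 : B p1 q = 0 := oq 1
  have oq2 : B p2 q = 0 := oq 2
  have s10 : B p1 p0 = 0 := by rw [F.symm]; exact o01
  have s20 : B p2 p0 = 0 := by rw [F.symm]; exact o02
  have s21 : B p2 p1 = 0 := by rw [F.symm]; exact o12
  have sq0 : B q p0 = 0 := by rw [F.symm]; exact oq0
  have sq1 : B q p1 = 0 := by rw [F.symm]; exact oq1
  have sq2 : B q p2 = 0 := by rw [F.symm]; exact oq2
  -- `v1 = p0`, `v2 = p0 + p1 + q`, `v3 = p1`, `v4 = p1 + q + p2`
  have m1 : B (p0 + p1 + q) (p0 + p1 + q) = 1 := by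
    simp only [map_add, LinearMap.add_apply, n0, n1, nq, o01, oq0, oq1, s10, sq0, sq1]
    decide
  have m2 : B (p1 + q + p2) (p1 + q + p2) = 1 := by
    simp only [map_add, LinearMap.add_apply, n1, n2, nq, oq1, o12, oq2, sq1, sq2, s21]
    decide
  have b12 : B p0 (p0 + p1 + q) = 1 := by
    simp only [map_add, n0, o01, oq0]
    decide
  have b23 : B (p0 + p1 + q) p1 = 1 := by
    simp only [map_add, LinearMap.add_apply, n1, o01, sq1]
    decide
  have b34 : B p1 (p1 + q + p2) = 1 := by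
    simp only [map_add, n1, oq1, o12]
    decide
  have b14 : B p0 (p1 + q + p2) = 0 := by
    simp only [map_add, o01, oq0, o02]
    decide
  have b24 : B (p0 + p1 + q) (p1 + q + p2) = 0 := by
    simp only [map_add, LinearMap.add_apply, n1, nq, o01, oq0, o02, oq1, o12, sq1, sq2]
    decide
  obtain ⟨a, ha, fa⟩ := h4 p0 n0
  obtain ⟨b, hb, fb⟩ := h4 _ m1
  obtain ⟨c, hc, fc⟩ := h4 p1 n1
  obtain ⟨d, hd, fd⟩ := h4 _ m2
  have key : ∀ {x y : G} {v w : Fin n → ZMod 3}, x ∈ E → y ∈ E → (v = f x ∨ v = - f x) → (w = f y ∨ w = - f y) →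
      (B v w = 0 ↔ B (f x) (f y) = 0) := by
    intro x y v w _ _ hv hw
    rcases hv with rfl | rfl <;> rcases hw with rfl | rfl <;> simp only [_root_.map_neg, _root_.neg_eq_zero, _root_.LinearMap.neg_apply, _root_.neg_neg]
  have com : ∀ {x y : G} {v w : Fin n → ZMod 3}, x ∈ E → y ∈ E → (v = f x ∨ v = - f x) → (w = f y ∨ w = - f y) →
      B v w = 0 → Commute x y := by
    intro x y v w hx hy hv hw h0
    exact (h2 x hx y hy).2 (Or.inr ((key hx hy hv hw).1 h0))
  -- for the non commuting pairs: `x = y` would commute with the third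
  have ncom : ∀ {x y z : G} {v w t : Fin n → ZMod 3}, x ∈ E → y ∈ E → z ∈ E → (v = f x ∨ v = - f x) →
      (w = f y ∨ w = - f y) → (t = f z ∨ t = - f z) → B v w ≠ 0 → B v t = 0 → B w t ≠ 0 → ¬ Commute x y := by
    intro x y z v w t hx hy hz hv hw ht h0 h1 h3 hcm
    rcases (h2 x hx y hy).1 hcm with h5 | h5
    · subst h5
      have h6 : B (f x) (f z) = 0 := (key hx hz hv ht).1 h1
      exact h3 ((key hx hz hw ht).2 h6)
    · exact h0 ((key hx hy hv hw).2 h5)
  refine ⟨a, ha, b, hb, c, hc, d, hd, ?_, ?_, ?_, ?_, ?_, ?_⟩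
  · refine ncom ha hb hc fa fb fc (by rw [b12]; decide) o01 (by rw [b23]; decide)
  · -- `b` and `c`: `a` commutes with `c`, not with `b`
    intro hcm
    refine ncom hc hb ha fc fb fa (by rw [F.symm, b23]; decide) s10 (by rw [F.symm, b12]; decide) hcm.symm
  · -- `c` and `d`: `b` commutes with `d`, not with `c`
    intro hcm
    refine ncom hd hc hb fd fc fb (by rw [F.symm, b34]; decide) (by rw [F.symm, b24]) (by rw [F.symm, b23]; decide) hcm.symm
  · exact com ha hc fa fc o01
  · exact com ha hd fa fd b14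
  · exact com hb hd fb fd b24

/-- **Every type of the list has a path.** -/
theorem of_inList {E : Set G} (hE : E.Nonempty) (h : InList E) : HasPath E := by
  have h6 : ∀ {E : Set G}, IsT6 E → HasPath E := by
    intro E h
    obtain ⟨h1, h2, -⟩ := h
    obtain ⟨x, hx⟩ : E.Nonempty := by
      rw [← Set.ncard_pos (Set.finite_of_ncard_pos (by omega))]
      omega
    exact (of_u (by norm_num) (h2 x hx)).mono fun y hy => hy.1
  have h7 : ∀ {E : Set G}, IsT7 E → HasPath E := by
    intro E h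
    obtain ⟨h1, h2, -⟩ := h
    obtain ⟨x, hx⟩ : E.Nonempty := by
      rw [← Set.ncard_pos (Set.finite_of_ncard_pos (by omega))]
      omega
    exact (h6 (h2 x hx)).mono fun y hy => hy.1
  rcases h with ⟨n, hn, h⟩ | ⟨n, hn, h⟩ | ⟨n, hn, h⟩ | ⟨n, hn, h⟩ | ⟨n, hn, h⟩ | h | h | h
  · exact of_sym hn h
  · exact of_sp hn h
  · exact of_o hn hE h
  · exact of_u hn h
  · exact of_r hn h
  · exact h6 h
  · exact h7 h
  · obtain ⟨h1, h2, -⟩ := h
    obtain ⟨x, hx⟩ : E.Nonempty := hE
    exact (h7 (h2 x hx)).mono fun y hy => hy.1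

/-! ### The product has order 5 -/

theorem pow_five {a b c d : G} (ha : a * a = 1) (hb : b * b = 1) (hc : c * c = 1) (hd : d * d = 1)
    (hab : a * b * a = b * a * b) (hbc : b * c * b = c * b * c) (hcd : c * d * c = d * c * d)
    (hac : a * c = c * a) (had : a * d = d * a) (hbd : b * d = d * b) : (a * b * c * d) ^ 5 = 1 := by
  have ia : a⁻¹ = a := inv_eq_of_mul_eq_one_left ha
  have ib : b⁻¹ = b := inv_eq_of_mul_eq_one_left hb
  have ic : c⁻¹ = c := inv_eq_of_mul_eq_one_left hc
  have id' : d⁻¹ = d := inv_eq_of_mul_eq_one_left hd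
  have xa : ∀ x : G, a * (a * x) = x := fun x => by rw [← mul_assoc, ha, one_mul]
  have xb : ∀ x : G, b * (b * x) = x := fun x => by rw [← mul_assoc, hb, one_mul]
  have xc : ∀ x : G, c * (c * x) = x := fun x => by rw [← mul_assoc, hc, one_mul]
  have xd : ∀ x : G, d * (d * x) = x := fun x => by rw [← mul_assoc, hd, one_mul]
  have yab : ∀ x : G, a * (b * (a * x)) = b * (a * (b * x)) := fun x => by
    simpa only [mul_assoc] using congrArg (· * x) hab
  have ybc : ∀ x : G, b * (c * (b * x)) = c * (b * (c * x)) := fun x => by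
    simpa only [mul_assoc] using congrArg (· * x) hbc
  have ycd : ∀ x : G, c * (d * (c * x)) = d * (c * (d * x)) := fun x => by
    simpa only [mul_assoc] using congrArg (· * x) hcd
  have zac : ∀ x : G, a * (c * x) = c * (a * x) := fun x => by
    simpa only [mul_assoc] using congrArg (· * x) hac
  have zad : ∀ x : G, a * (d * x) = d * (a * x) := fun x => by
    simpa only [mul_assoc] using congrArg (· * x) had
  have zbd : ∀ x : G, b * (d * x) = d * (b * x) := fun x => by
    simpa only [mul_assoc] using congrArg (· * x) hbd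
  set g := a * b * c * d with hg
  -- conjugation by `g`
  have ga : g * a = b * g := by
    rw [hg]; simp only [mul_assoc]
    rw [← had, ← zac, yab]
  have gb : g * b = c * g := by
    rw [hg]; simp only [mul_assoc]
    rw [← hbd, ybc, zac]
  have gc : g * c = d * g := by
    rw [hg]; simp only [mul_assoc]
    have h1 : c * (d * c) = d * (c * d) := by simpa only [mul_assoc] using hcd
    rw [h1, zbd, zad]
  -- `e = (1 5)`
  set e := a * b * c * d * c * b * a with he
  have gd : g * d = e * g := by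
    rw [hg, he]; simp only [mul_assoc]
    rw [xa, xb, xc]
  have e2 : e * e = 1 := by
    rw [he]; simp only [mul_assoc]
    rw [xa, xb, xc, xd, xc, xb, ha]
  have he' : e = d * c * b * a * b * c * d := by
    have h1 : a * b * d = d * a * b := by rw [mul_assoc, hbd, ← mul_assoc, had]
    have h2 : d * b * a = b * a * d := by rw [← hbd, mul_assoc, ← had, mul_assoc]
    calc e = a * b * (c * d * c) * b * a := by rw [he]; simp only [mul_assoc]
      _ = (a * b * d) * c * (d * b * a) := by rw [hcd]; simp only [mul_assoc]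
      _ = d * (a * (b * c * b) * a) * d := by rw [h1, h2]; simp only [mul_assoc]
      _ = d * ((a * c) * b * (c * a)) * d := by rw [hbc]; simp only [mul_assoc]
      _ = d * (c * (a * b * a) * c) * d := by rw [← hac]; nth_rewrite 1 [hac]; simp only [mul_assoc]
      _ = d * c * b * a * b * c * d := by rw [hab]; simp only [mul_assoc]
  have ge : g * e = a * g := by
    rw [he', hg]; simp only [mul_assoc]
    rw [xd, xc, xb, ]
  have hge1 : g = b * c * d * e := by
    have h1 : g * g = (b * c * d * e) * g := by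
      calc g * g = g * (a * b * c * d) := by rw [← hg]
        _ = (g * a) * b * c * d := by simp only [mul_assoc]
        _ = b * (g * b) * c * d := by rw [ga]; simp only [mul_assoc]
        _ = b * c * (g * c) * d := by rw [gb]; simp only [mul_assoc]
        _ = b * c * d * (g * d) := by rw [gc]; simp only [mul_assoc]
        _ = (b * c * d * e) * g := by rw [gd]; simp only [mul_assoc]
    exact mul_right_cancel h1
  have step : ∀ x y z w x' y' z' w' : G, g * x = x' * g → g * y = y' * g → g * z = z' * g → g * w = w' * g →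
      g = x * y * z * w → g = x' * y' * z' * w' := by
    intro x y z w x' y' z' w' h1 h2 h3 h4 h5
    have h6 : g * g = (x' * y' * z' * w') * g := by
      calc g * g = g * (x * y * z * w) := by rw [← h5]
        _ = (g * x) * y * z * w := by simp only [mul_assoc]
        _ = x' * (g * y) * z * w := by rw [h1]; simp only [mul_assoc]
        _ = x' * y' * (g * z) * w := by rw [h2]; simp only [mul_assoc]
        _ = x' * y' * z' * (g * w) := by rw [h3]; simp only [mul_assoc]
        _ = (x' * y' * z' * w') * g := by rw [h4]; simp only [mul_assoc]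
    exact mul_right_cancel h6
  have g2 : g = c * d * e * a := step _ _ _ _ _ _ _ _ gb gc gd ge hge1
  have g3 : g = d * e * a * b := step _ _ _ _ _ _ _ _ gc gd ge ga g2
  have g4 : g = e * a * b * c := step _ _ _ _ _ _ _ _ gd ge ga gb g3
  -- commuting pairs with `e`
  have pair : ∀ x y x' y' : G, g * x = x' * g → g * y = y' * g → x * y = y * x → x' * y' = y' * x' := by
    intro x y x' y' h1 h2 h3
    have h4 : (x' * y') * g = (y' * x') * g := by
      calc (x' * y') * g = x' * (y' * g) := mul_assoc _ _ _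
        _ = x' * (g * y) := by rw [h2]
        _ = (x' * g) * y := (mul_assoc _ _ _).symm
        _ = (g * x) * y := by rw [h1]
        _ = g * (x * y) := mul_assoc _ _ _
        _ = g * (y * x) := by rw [h3]
        _ = (g * y) * x := (mul_assoc _ _ _).symm
        _ = (y' * g) * x := by rw [h2]
        _ = y' * (g * x) := mul_assoc _ _ _
        _ = y' * (x' * g) := by rw [h1]
        _ = (y' * x') * g := (mul_assoc _ _ _).symm
    exact mul_right_cancel h4
  have hbe : b * e = e * b := pair a d b e ga gd had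
  have hce : c * e = e * c := pair b d c e gb gd hbd
  have xe : ∀ x : G, e * (e * x) = x := fun x => by rw [← mul_assoc, e2, one_mul]
  have zce : ∀ x : G, c * (e * x) = e * (c * x) := fun x => by
    simpa only [mul_assoc] using congrArg (· * x) hce
  have zbe : ∀ x : G, b * (e * x) = e * (b * x) := fun x => by
    simpa only [mul_assoc] using congrArg (· * x) hbe
  calc g ^ 5 = g * g * g * g * g := by simp only [pow_succ, pow_zero, one_mul]
    _ = (a * b * c * d) * (d * e * a * b) * (b * c * d * e) * (e * a * b * c) * (c * d * e * a) := by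
        rw [← hge1, ← g2, ← g3, ← g4, ← hg]
    _ = 1 := by
        simp only [mul_assoc]
        rw [xd, xb, xe, xc]
        -- `a b c e a c d a b d e a`
        rw [zac, zce, xc]
        -- `a b e a d a b d e a`
        rw [zad, xa, zbd, xd, zbe, xb, xe, ha]

theorem ne_one {a b c d : G} (ha : a * a = 1) (hab : ¬ Commute a b) (hac : Commute a c) (had : Commute a d) :
    a * b * c * d ≠ 1 := by
  intro h
  apply hab
  have h1 : b = a⁻¹ * (c * d)⁻¹ := by
    have h2 : a * b * (c * d) = 1 := by rw [← h]; group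
    have h3 : a * b = (c * d)⁻¹ := eq_inv_of_mul_eq_one_left h2
    rw [← h3]; group
  rw [h1]
  have h2 : Commute a (c * d)⁻¹ := (hac.mul_right had).inv_right
  exact ((Commute.refl a).inv_right).mul_right h2

/-- **A path gives an element of order 5.** -/
theorem five_dvd [Finite G] {E : Set G} (hsq : ∀ a ∈ E, a * a = 1)
    (htri : ∀ a ∈ E, ∀ b ∈ E, a * b = b * a ∨ a * b * a = b * a * b) (h : HasPath E) : 5 ∣ Nat.card G := by
  obtain ⟨a, ha, b, hb, c, hc, d, hd, h1, h2, h3, h4, h5, h6⟩ := h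
  have : Fact (Nat.Prime 5) := ⟨by norm_num⟩
  have h7 : orderOf (a * b * c * d) = 5 := by
    apply orderOf_eq_prime
    · exact pow_five (hsq a ha) (hsq b hb) (hsq c hc) (hsq d hd) ((htri a ha b hb).resolve_left h1)
        ((htri b hb c hc).resolve_left h2) ((htri c hc d hd).resolve_left h3) h4 h5 h6
    · exact ne_one (hsq a ha) h1 h4 h5
  rw [← h7]
  exact orderOf_dvd_natCard _

end Cfsg.Agent.LThreeFi24.Path

end

-- merged: Cfsg.Agent.LThreeFi24.FG
section

/-!
# Transpositions acting nontrivially on a component (helper47, row Fi24' of S1806)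

* `five_dvd` : if a member of the set `E` of 3-transpositions does not centralise the component `K` then `5` divides `|K|`
  (Fischer's theorem for `⟨Inn, d⟩`);
* `quasi_dvd` : a quasisimple group acting nontrivially on `K` has `|P/Z(P)|` dividing `|K/Z(K)|` (Schreier property).
-/

set_option autoImplicit false
set_option linter.unusedSectionVars false

namespace Cfsg.Agent.LThreeFi24.FG

open Subgroup Cfsg Cfsg.Agent.SignalizersComponents Cfsg.Agent.LThreeFi24.Comp Cfsg.Agent.Fischer480.Defs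

open scoped commutatorElement

universe u v

section Abstract

variable {Γ : Type u} [Group Γ]

theorem mem_centralizer_of_inf {I M : Subgroup Γ} [I.Normal] [M.Normal] (h : M ⊓ I = ⊥) :
    M ≤ centralizer (I : Set Γ) := by
  rw [← commutator_eq_bot_iff_le_centralizer, eq_bot_iff, ← h]
  exact commutator_le_inf M I

theorem inf_eq_bot_or_le {I M : Subgroup Γ} [I.Normal] [M.Normal] (hs : IsSimpleGroup ↥I) :
    M ⊓ I = ⊥ ∨ I ≤ M := by
  have hn : (M.subgroupOf I).Normal := inferInstance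
  rcases hn.eq_bot_or_eq_top with h | h
  · left
    rw [subgroupOf_eq_bot] at h
    exact h.eq_bot
  · right
    exact subgroupOf_eq_top.1 h

theorem fgroup_of [Finite Γ] (I : Subgroup Γ) [I.Normal] (hs : IsSimpleGroup ↥I) (hna : ¬ IsMulCommutative ↥I)
    (hc : centralizer (I : Set Γ) = ⊥) (t : Γ) (ht : t ≠ 1) (ht2 : t * t = 1) (hg : ∀ g : Γ, g ∈ I ∨ t * g ∈ I)
    (htri : ∀ g : Γ, t * (g * t * g⁻¹) = (g * t * g⁻¹) * t ∨
      t * (g * t * g⁻¹) * t = (g * t * g⁻¹) * t * (g * t * g⁻¹)) : FGroup (conjugatesOf t) := by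
  have hto : orderOf t = 2 := orderOf_eq_prime (by rw [pow_two, ht2]) ht
  -- `I` is perfect
  have hIns : ¬ Group.IsSolvable ↥I := by
    intro h
    apply hna
    have := hs
    have h1 := IsSimpleGroup.comm_iff_isSolvable (G := ↥I)
    exact ⟨⟨fun a b => h1.2 h a b⟩⟩
  have hIp : ⁅I, I⁆ = I := by
    have := hs
    have h1 : (⁅I, I⁆).Normal := inferInstance
    rcases inf_eq_bot_or_le (M := ⁅I, I⁆) hs with h | h
    · exfalso
      apply hna
      have h2 : ⁅I, I⁆ = ⊥ := by rw [← h, inf_eq_left.2 (commutator_le_self I)]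
      rw [commutator_eq_bot_iff_le_centralizer] at h2
      exact ⟨⟨fun a b => Subtype.ext ((mem_centralizer_iff.1 (h2 b.2)) a a.2)⟩⟩
    · exact le_antisymm (commutator_le_self I) h
  have hcomm : commutator Γ = I := by
    apply le_antisymm
    · rw [commutator_def, commutator_le]
      intro a _ b _
      -- in the quotient by `I` everything is a power of `t`
      have hq : ∀ g : Γ, (g : Γ ⧸ I) = 1 ∨ (g : Γ ⧸ I) = ((t : Γ) : Γ ⧸ I) := by
        intro g
        rcases hg g with h | h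
        · exact Or.inl ((QuotientGroup.eq_one_iff g).2 h)
        · right
          have h1 : ((t * g : Γ) : Γ ⧸ I) = 1 := (QuotientGroup.eq_one_iff _).2 h
          have h2 : ((t * t : Γ) : Γ ⧸ I) = 1 := by rw [ht2]; rfl
          rw [QuotientGroup.mk_mul] at h1 h2
          exact (mul_left_cancel (h1.trans h2.symm))
      rw [← QuotientGroup.eq_one_iff, commutatorElement_def, QuotientGroup.mk_mul, QuotientGroup.mk_mul,
        QuotientGroup.mk_mul, QuotientGroup.mk_inv, QuotientGroup.mk_inv]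
      rcases hq a with h1 | h1 <;> rcases hq b with h2 | h2 <;> rw [h1, h2] <;> group
    · rw [← hIp, commutator_def]
      exact commutator_mono le_top le_top
  refine ⟨⟨⟨?_, ?_⟩, ⟨t, mem_conjugatesOf_self, rfl⟩, ?_⟩, ?_, ?_⟩
  · intro d hd
    obtain ⟨g, rfl⟩ := isConj_iff.1 (show IsConj t d from hd)
    rw [← hto]
    exact MulEquiv.orderOf_eq (MulAut.conj g) t
  · intro d hd e he
    obtain ⟨g, rfl⟩ := isConj_iff.1 (show IsConj t d from hd)
    obtain ⟨k, rfl⟩ := isConj_iff.1 (show IsConj t e from he)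
    -- conjugate to `t * (g⁻¹ k t k⁻¹ g)`
    have h0 := htri (g⁻¹ * k)
    set s := (g⁻¹ * k) * t * (g⁻¹ * k)⁻¹ with hsdef
    have hs2 : s * s = 1 := by
      rw [hsdef]
      calc (g⁻¹ * k) * t * (g⁻¹ * k)⁻¹ * ((g⁻¹ * k) * t * (g⁻¹ * k)⁻¹) = (g⁻¹ * k) * (t * t) * (g⁻¹ * k)⁻¹ := by group
        _ = 1 := by rw [ht2]; group
    have hcj : (g * t * g⁻¹) * (k * t * k⁻¹) = g * (t * s) * g⁻¹ := by rw [hsdef]; group
    rw [hcj]
    rcases h0 with h0 | h0
    · left
      rw [conj_pow]
      have : (t * s) ^ 2 = 1 := by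
        calc (t * s) ^ 2 = t * (s * t) * s := by rw [pow_two]; simp only [mul_assoc]
          _ = t * (t * s) * s := by rw [h0]
          _ = (t * t) * (s * s) := by simp only [mul_assoc]
          _ = 1 := by rw [ht2, hs2, one_mul]
      rw [this]; group
    · right
      rw [conj_pow]
      have : (t * s) ^ 3 = 1 := by
        calc (t * s) ^ 3 = (t * s * t) * (s * t * s) := by simp only [pow_succ, pow_zero, one_mul, mul_assoc]
          _ = (t * s * t) * (t * s * t) := by rw [h0]
          _ = t * s * (t * t) * s * t := by simp only [mul_assoc]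
          _ = t * (s * s) * t := by rw [ht2, mul_one]; simp only [mul_assoc]
          _ = 1 := by rw [hs2, mul_one, ht2]
      rw [this]; group
  · -- generation
    have h1 : Subgroup.closure (conjugatesOf t) = Subgroup.normalClosure {t} := by
      have h2 : Group.conjugatesOfSet ({t} : Set Γ) = conjugatesOf t := by simp [Group.conjugatesOfSet]
      rw [Subgroup.normalClosure, h2]
    rw [h1]
    have hM : (Subgroup.normalClosure ({t} : Set Γ)).Normal := inferInstance
    have htM : t ∈ Subgroup.normalClosure ({t} : Set Γ) := Subgroup.subset_normalClosure rfl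
    rcases inf_eq_bot_or_le (M := Subgroup.normalClosure ({t} : Set Γ)) hs with h | h
    · exfalso
      have h2 := mem_centralizer_of_inf h
      rw [hc] at h2
      exact ht (mem_bot.1 (h2 htM))
    · rw [eq_top_iff]
      intro g _
      rcases hg g with h2 | h2
      · exact h h2
      · have h3 : g = t⁻¹ * (t * g) := by group
        rw [h3]
        exact mul_mem (inv_mem htM) (h h2)
  · intro N hN hsol
    rcases inf_eq_bot_or_le (M := N) hs with h | h
    · have h2 := mem_centralizer_of_inf h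
      rw [hc] at h2
      exact le_bot_iff.1 h2
    · exfalso
      exact hIns (Group.isSolvable_of_isSolvable_injective (Subgroup.inclusion_injective h))
  · rw [hcomm, hIp]

end Abstract

/-! ### The inner automorphisms -/

section Inner

variable {S : Type u} [Group S]

theorem conj_eq_one_iff (hs : IsSimpleGroup S) (hna : ¬ IsMulCommutative S) :
    Function.Injective (MulAut.conj : S →* MulAut S) := by
  rw [← MonoidHom.ker_eq_bot_iff]
  have := hs
  rcases (inferInstance : (MulAut.conj : S →* MulAut S).ker.Normal).eq_bot_or_eq_top with h | h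
  · exact h
  · exfalso
    apply hna
    refine ⟨⟨fun a b => ?_⟩⟩
    have h1 : a ∈ (MulAut.conj : S →* MulAut S).ker := by rw [h]; exact mem_top a
    have h2 : (MulAut.conj a) b = b := by rw [MonoidHom.mem_ker.1 h1]; rfl
    rw [MulAut.conj_apply] at h2
    exact mul_inv_eq_iff_eq_mul.1 h2

theorem conj_aut (α : MulAut S) (s : S) : α * MulAut.conj s * α⁻¹ = MulAut.conj (α s) := by
  ext x
  show α (s * (α⁻¹ x) * s⁻¹) = α s * x * (α s)⁻¹
  rw [map_mul, map_mul, map_inv]
  congr 2
  exact MulAut.apply_inv_self S α x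

theorem eq_one_of_comm (hs : IsSimpleGroup S) (hna : ¬ IsMulCommutative S) {α : MulAut S}
    (h : ∀ s : S, MulAut.conj s * α = α * MulAut.conj s) : α = 1 := by
  ext s
  apply conj_eq_one_iff hs hna
  show MulAut.conj (α s) = MulAut.conj s
  rw [← conj_aut, ← h s, mul_inv_cancel_right]

end Inner

/-! ### The action on a normal quasisimple subgroup -/

section Act

variable {Y : Type u} [Group Y] {K : Subgroup Y} [K.Normal]

/-- the action on `K / Z(K)` -/
noncomputable def act (K : Subgroup Y) [K.Normal] : Y →* MulAut (↥K ⧸ center ↥K) :=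
  (Schreier.Balance.quoAut ↥K).comp MulAut.conjNormal

theorem act_mk (y : Y) (k : ↥K) :
    act K y (QuotientGroup.mk k) = QuotientGroup.mk (MulAut.conjNormal y k) := rfl

theorem act_self (k : ↥K) : act K (k : Y) = MulAut.conj (QuotientGroup.mk k : ↥K ⧸ center ↥K) := by
  ext x
  induction x using QuotientGroup.induction_on with
  | H a =>
    rw [act_mk, MulAut.conj_apply, ← QuotientGroup.mk_mul, ← QuotientGroup.mk_inv, ← QuotientGroup.mk_mul]
    congr 1

theorem act_eq_one_iff (hK : IsQuasisimple ↥K) (y : Y) : act K y = 1 ↔ ∀ k ∈ K, y * k = k * y := by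
  constructor
  · intro h k hk
    have h1 : MulAut.conjNormal y = (1 : MulAut ↥K) := Schreier.Balance.eq_one_of_quoAut_eq_one hK.1 h
    have h2 : (MulAut.conjNormal y : MulAut ↥K) ⟨k, hk⟩ = ⟨k, hk⟩ := by rw [h1]; rfl
    have h3 := congrArg Subtype.val h2
    rw [MulAut.conjNormal_apply] at h3
    exact mul_inv_eq_iff_eq_mul.1 h3
  · intro h
    have h1 : MulAut.conjNormal y = (1 : MulAut ↥K) := by
      ext k
      rw [MulAut.conjNormal_apply, h k k.2, mul_inv_cancel_right]
      rfl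
    show Schreier.Balance.quoAut ↥K (MulAut.conjNormal y) = 1
    rw [h1, map_one]

theorem five_dvd_of_normal [Finite Y] (hK : IsQuasisimple ↥K) {E : Set Y} (hE : TSet E) {d : Y} (hd : d ∈ E)
    (hn : ¬ ∀ k ∈ K, d * k = k * d) : 5 ∣ Nat.card ↥K := by
  have hs : IsSimpleGroup (↥K ⧸ center ↥K) := hK.2
  have hna : ¬ IsMulCommutative (↥K ⧸ center ↥K) := by
    intro hc
    apply Components.quasisimple_not_isSolvable hK
    have h1 : Group.IsSolvable (↥K ⧸ center ↥K) := Group.isSolvable_of_comm fun a b => hc.is_comm.comm a b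
    have h2 : Group.IsSolvable ↥(center ↥K) :=
      Group.isSolvable_of_comm fun a b => Subtype.ext (mem_center_iff.1 b.2 a)
    exact Group.isSolvable_of_ker_le_range (center ↥K).subtype (QuotientGroup.mk' (center ↥K))
      (by rw [QuotientGroup.ker_mk', range_subtype])
  let S := ↥K ⧸ center ↥K
  let I₀ : Subgroup (MulAut S) := (MulAut.conj : S →* MulAut S).range
  have hI₀ : I₀.Normal := Schreier.Basic.conj_range_normal S
  let τ : MulAut S := act K d
  have hτ1 : τ ≠ 1 := fun h => hn ((act_eq_one_iff hK d).1 h)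
  have hτ2 : τ * τ = 1 := by
    show act K d * act K d = 1
    rw [← map_mul, hE.sq d hd, map_one]
  let Γ : Subgroup (MulAut S) := I₀ ⊔ zpowers τ
  let I : Subgroup ↥Γ := I₀.subgroupOf Γ
  have hIn : I.Normal := inferInstance
  let t : ↥Γ := ⟨τ, mem_sup_right (mem_zpowers τ)⟩
  have e1 : ↥I ≃* S := (subgroupOfEquivOfLe (le_sup_left : I₀ ≤ Γ)).trans
    (MonoidHom.ofInjective (conj_eq_one_iff hs hna)).symm
  have hsI : IsSimpleGroup ↥I := e1.isSimpleGroup_congr.2 hs
  have hnI : ¬ IsMulCommutative ↥I := by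
    intro hc
    apply hna
    refine ⟨⟨fun a b => ?_⟩⟩
    apply e1.symm.injective
    rw [map_mul, map_mul]
    exact hc.is_comm.comm _ _
  -- every element of `Γ` is in `I` or `t I`
  have hτz : ∀ n : ℤ, τ ^ n = 1 ∨ τ ^ n = τ := by
    intro n
    have h2 : τ ^ (2 : ℤ) = 1 := by rw [show (2 : ℤ) = 1 + 1 from rfl, zpow_add, zpow_one, hτ2]
    rcases Int.even_or_odd' n with ⟨m, rfl | rfl⟩
    · left
      rw [zpow_mul, h2, one_zpow]
    · right
      rw [zpow_add, zpow_mul, h2, one_zpow, one_mul, zpow_one]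
  have hdec : ∀ γ ∈ Γ, ∃ i ∈ I₀, γ = i ∨ γ = i * τ := by
    intro γ hγ
    obtain ⟨i, hi, w, ⟨n, rfl⟩, rfl⟩ := mem_sup_of_normal_left.1 hγ
    rcases hτz n with h | h
    · exact ⟨i, hi, Or.inl (by show i * τ ^ n = i; rw [h, mul_one])⟩
    · exact ⟨i, hi, Or.inr (by show i * τ ^ n = i * τ; rw [h])⟩
  have hg : ∀ g : ↥Γ, g ∈ I ∨ t * g ∈ I := by
    intro g
    obtain ⟨i, hi, h | h⟩ := hdec g g.2
    · left
      show (g : MulAut S) ∈ I₀
      rw [h]; exact hi
    · right
      show (τ * (g : MulAut S)) ∈ I₀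
      rw [h]
      have h1 : τ * (i * τ) = τ * i * τ⁻¹ := by
        rw [inv_eq_of_mul_eq_one_left hτ2, mul_assoc]
      rw [h1]
      exact hI₀.conj_mem i hi τ
  -- the conjugates of `t`
  have hconj : ∀ g : ↥Γ, ∃ e ∈ E, ((g * t * g⁻¹ : ↥Γ) : MulAut S) = act K e := by
    intro g
    have key : ∀ i ∈ I₀, ∃ e ∈ E, i * τ * i⁻¹ = act K e := by
      rintro _ ⟨s, rfl⟩
      obtain ⟨k, rfl⟩ := QuotientGroup.mk_surjective s
      refine ⟨(k : Y) * d * (k : Y)⁻¹, hE.cj d hd k, ?_⟩
      rw [map_mul, map_mul, map_inv, act_self]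
    obtain ⟨i, hi, h | h⟩ := hdec g g.2
    · obtain ⟨e, he, h1⟩ := key i hi
      refine ⟨e, he, ?_⟩
      rw [← h1, coe_mul, coe_mul, coe_inv, h]
    · obtain ⟨e, he, h1⟩ := key i hi
      refine ⟨e, he, ?_⟩
      rw [← h1, coe_mul, coe_mul, coe_inv, h]
      show (i * τ) * τ * (i * τ)⁻¹ = i * τ * i⁻¹
      group
  have htri : ∀ g : ↥Γ, t * (g * t * g⁻¹) = (g * t * g⁻¹) * t ∨
      t * (g * t * g⁻¹) * t = (g * t * g⁻¹) * t * (g * t * g⁻¹) := by
    intro g
    obtain ⟨e, he, h⟩ := hconj g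
    rcases hE.tri d hd e he with h1 | h1
    · left
      apply Subtype.ext
      show τ * ((g * t * g⁻¹ : ↥Γ) : MulAut S) = ((g * t * g⁻¹ : ↥Γ) : MulAut S) * τ
      rw [h]
      show act K d * act K e = act K e * act K d
      rw [← map_mul, h1, map_mul]
    · right
      apply Subtype.ext
      show τ * ((g * t * g⁻¹ : ↥Γ) : MulAut S) * τ = ((g * t * g⁻¹ : ↥Γ) : MulAut S) * τ *
        ((g * t * g⁻¹ : ↥Γ) : MulAut S)
      rw [h]
      show act K d * act K e * act K d = act K e * act K d * act K e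
      rw [← map_mul, ← map_mul, h1, map_mul, map_mul]
  have hcI : centralizer (I : Set ↥Γ) = ⊥ := by
    rw [eq_bot_iff]
    intro g hg
    rw [mem_bot]
    apply Subtype.ext
    show (g : MulAut S) = 1
    apply eq_one_of_comm hs hna
    intro s
    have h1 : (⟨MulAut.conj s, mem_sup_left ⟨s, rfl⟩⟩ : ↥Γ) ∈ I := by
      show MulAut.conj s ∈ I₀
      exact ⟨s, rfl⟩
    have h2 := mem_centralizer_iff.1 hg _ h1
    exact congrArg Subtype.val h2
  have hF : FGroup (conjugatesOf t) := fgroup_of I hsI hnI hcI t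
    (fun h => hτ1 (congrArg Subtype.val h)) (Subtype.ext hτ2) hg htri
  have hL := Fischer480.AllPieces.inList hF
  have hP := Path.of_inList ⟨t, mem_conjugatesOf_self⟩ hL
  have hsq : ∀ a ∈ conjugatesOf t, a * a = 1 := by
    intro a ha
    have h1 := hF.cls.1.1 a ha
    rw [← pow_two, ← h1, pow_orderOf_eq_one]
  have h5 : 5 ∣ Nat.card ↥Γ := by
    refine Path.five_dvd hsq ?_ hP
    intro a ha b hb
    obtain ⟨g, rfl⟩ := isConj_iff.1 (show IsConj t a from ha)
    obtain ⟨k, rfl⟩ := isConj_iff.1 (show IsConj t b from hb)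
    obtain ⟨e, he, h1⟩ := hconj g
    obtain ⟨f, hf, h2⟩ := hconj k
    rcases hE.tri e he f hf with h3 | h3
    · left
      apply Subtype.ext
      show ((g * t * g⁻¹ : ↥Γ) : MulAut S) * ((k * t * k⁻¹ : ↥Γ) : MulAut S) =
        ((k * t * k⁻¹ : ↥Γ) : MulAut S) * ((g * t * g⁻¹ : ↥Γ) : MulAut S)
      rw [h1, h2, ← map_mul, h3, map_mul]
    · right
      apply Subtype.ext
      show ((g * t * g⁻¹ : ↥Γ) : MulAut S) * ((k * t * k⁻¹ : ↥Γ) : MulAut S) * ((g * t * g⁻¹ : ↥Γ) : MulAut S) =
        ((k * t * k⁻¹ : ↥Γ) : MulAut S) * ((g * t * g⁻¹ : ↥Γ) : MulAut S) * ((k * t * k⁻¹ : ↥Γ) : MulAut S)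
      rw [h1, h2, ← map_mul, ← map_mul, h3, map_mul, map_mul]
  -- the index of `I`
  have hidx : Nat.card ↥Γ ∣ Nat.card ↥I * 2 := by
    rw [← I.card_mul_index]
    apply Nat.mul_dvd_mul_left
    rw [index_eq_card]
    have h1 : zpowers (QuotientGroup.mk' I t) = ⊤ := by
      rw [eq_top_iff]
      intro x _
      obtain ⟨g, rfl⟩ := QuotientGroup.mk'_surjective I x
      rcases hg g with h | h
      · rw [show QuotientGroup.mk' I g = 1 from (QuotientGroup.eq_one_iff g).2 h]
        exact one_mem _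
      · have h2 : QuotientGroup.mk' I (t * g) = 1 := (QuotientGroup.eq_one_iff _).2 h
        rw [map_mul] at h2
        rw [eq_inv_of_mul_eq_one_right h2]
        exact inv_mem (mem_zpowers _)
    have h2 : Nat.card (↥Γ ⧸ I) = orderOf (QuotientGroup.mk' I t) := by
      rw [← Nat.card_zpowers, h1, card_top]
    rw [h2]
    apply orderOf_dvd_of_pow_eq_one
    rw [← map_pow, pow_two, show t * t = 1 from Subtype.ext hτ2, map_one]
  have h6 : 5 ∣ Nat.card ↥I := by
    have h7 : 5 ∣ Nat.card ↥I * 2 := h5.trans hidx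
    exact (Nat.Coprime.dvd_mul_right (by norm_num)).1 h7
  rw [Nat.card_congr e1.toEquiv] at h6
  exact h6.trans (card_quotient_dvd_card (center ↥K))

end Act

/-- **A transposition acting nontrivially on a component.** -/
theorem five_dvd {Y : Type u} [Group Y] [Finite Y] {K : Subgroup Y} (hK : IsComponent K) {E : Set Y} (hE : TSet E)
    {d : Y} (hd : d ∈ E) (hn : ¬ ∀ k ∈ K, d * k = k * d) : 5 ∣ Nat.card ↥K := by
  let N : Subgroup Y := normalizer (K : Set Y)
  have hKN : K ≤ N := le_normalizer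
  have hdN : ∀ e ∈ E, e ∈ N := by
    intro e he
    rw [mem_normalizer_iff_map_conj_eq]
    apply eq_of_le_of_card_ge
    · rintro _ ⟨k, hk, rfl⟩
      exact hE.normalizes hK he hk
    · exact (Nat.card_congr (K.equivMapOfInjective (MulAut.conj e).toMonoidHom (MulAut.conj e).injective).toEquiv).le
  let E' : Set ↥N := {x | (x : Y) ∈ E}
  have hE' : TSet E' := by
    refine ⟨fun a ha => Subtype.ext (hE.sq _ ha), fun a ha g => hE.cj _ ha g, fun a ha b hb => ?_⟩
    rcases hE.tri _ ha _ hb with h | h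
    · exact Or.inl (Subtype.ext h)
    · exact Or.inr (Subtype.ext h)
  have hn' : (K.subgroupOf N).Normal := normal_subgroupOf_of_le_normalizer le_rfl
  have hq : IsQuasisimple ↥(K.subgroupOf N) :=
    Components.isQuasisimple_of_mulEquiv (subgroupOfEquivOfLe hKN).symm hK.2
  have h1 := five_dvd_of_normal hq hE' (d := ⟨d, hdN d hd⟩) hd (by
    intro h
    apply hn
    intro k hk
    exact congrArg Subtype.val (h ⟨k, hKN hk⟩ hk))
  rwa [Nat.card_congr (subgroupOfEquivOfLe hKN).toEquiv] at h1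

/-- **A quasisimple group acting on a simple group with the Schreier property.** -/
theorem quasi_dvd {P : Type v} [Group P] [Finite P] (hP : IsQuasisimple P) {S : Type u} [Group S] [Finite S]
    (hs : IsSimpleGroup S) (hna : ¬ IsMulCommutative S) (hSch : Schreier.Basic.Sch S) (ψ : P →* MulAut S) :
    (∀ x, ψ x = 1) ∨ Nat.card (P ⧸ center P) ∣ Nat.card S := by
  rcases Components.quasisimple_normal hP ψ.ker inferInstance with h | h
  · left
    intro x
    exact MonoidHom.mem_ker.1 (by rw [h]; exact mem_top x)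
  · right
    have h1 : ψ.range ≤ (MulAut.conj : S →* MulAut S).range := by
      apply hSch
      have h2 : Group.IsPerfect P := hP.1
      have h3 : ⁅(⊤ : Subgroup P), ⊤⁆ = ⊤ := h2.commutator_eq_top
      rw [MonoidHom.range_eq_map, ← map_commutator, h3]
    have h2 : Nat.card (P ⧸ center P) ∣ Nat.card (P ⧸ ψ.ker) := by
      rw [← index_eq_card, ← index_eq_card]
      exact index_dvd_of_le h
    have h3 : Nat.card (P ⧸ ψ.ker) = Nat.card ↥ψ.range :=
      Nat.card_congr (QuotientGroup.quotientKerEquivRange ψ).toEquiv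
    have h4 : Nat.card ↥(MulAut.conj : S →* MulAut S).range = Nat.card S :=
      (Nat.card_congr (MonoidHom.ofInjective (conj_eq_one_iff hs hna)).toEquiv).symm
    rw [← h4]
    exact (h2.trans (h3 ▸ dvd_rfl)).trans (card_dvd_of_le h1)

end Cfsg.Agent.LThreeFi24.FG

end
end

-- part: LThreeFi24/Base24
section
set_option linter.all false
open scoped Cfsg.Agent.FastGrp

/-!
# `C_F(x)`, `x` of order 3, `F = Fi24` (helper47, row Fi24' of S1806)

* `inv3` : three transpositions invert the product of two noncommuting transpositions;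
* `comps_cd` : the centralizer of `x` and a transposition, from `Fi23`;
* `inC_or` : a component of `C_F(x)/O` is a `C_3`-group, or the transpositions of `C_F(x)` act nontrivially on it.
-/

set_option autoImplicit false
set_option maxRecDepth 100000

namespace Cfsg.Agent.LThreeFi24.Base24

open Cfsg Cfsg.Agent.Lib.PermNet Cfsg.Agent.Lib.PermNetPt Cfsg.Agent.Fischer.Fi24RepDef Cfsg.Agent.Fischer.Fi24Rep
open Cfsg.Agent.Fischer.Fi24RepOrb (UG orbG)
open Cfsg.Agent.KFacts.FiTF.Pts Cfsg.Agent.KFacts.FiTF.FixMask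
open Cfsg.Agent.LThreeFi24.SNine Cfsg.Agent.LThreeFi24.SNineK Cfsg.Agent.LThreeFi24.Comp
open Cfsg.Agent.LThree
open Cfsg.Spor (Fi24 Fi23)
open Cfsg.Spor.Fi24 (Gen)
open Subgroup
open Cfsg.Agent.R08.FiTwentyFour (L)

theorem word_one' (x : Gen) : word [x] = gen x := by
  rw [Cfsg.Agent.Fischer.Fi24Spider.word_cons, Cfsg.Agent.Fischer.Fi24Spider.word_nil, mul_one]

theorem gen_mem (x : Gen) : gen x ∈ L := Cfsg.Agent.R08.FiTwentyFour.gen_mem_L x

/-- transitivity on the noncommuting pairs -/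
theorem noncomm_trans {a b a' b' : Fi24} (ha : a ∈ L) (hb : b ∈ L) (ha' : a' ∈ L) (hb' : b' ∈ L) (hn : ¬ Commute a b)
    (hn' : ¬ Commute a' b') : ∃ g, g * a * g⁻¹ = a' ∧ g * b * g⁻¹ = b' := by
  obtain ⟨R, h1, h2, h3⟩ := Cfsg.Agent.R08.FiTwentyFour.facts.exists_rank3
  have key : ∀ {a b : Fi24}, a ∈ L → b ∈ L → ¬ Commute a b → ∃ g, g * R.t R.x0 * g⁻¹ = a ∧ g * R.t R.b * g⁻¹ = b := by
    intro a b ha hb hn
    rw [← h3] at ha hb
    obtain ⟨x, rfl⟩ := ha
    obtain ⟨y, rfl⟩ := hb
    obtain ⟨g, rfl⟩ := R.trans x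
    have hn2 : ¬ R.Com (g • R.x0) y := hn
    have hn3 : ¬ R.Com R.x0 (g⁻¹ • y) := by
      intro h
      apply hn2
      have h4 := (R.com_smul g R.x0 (g⁻¹ • y)).2 h
      rwa [smul_inv_smul] at h4
    rcases R.rank3 (g⁻¹ • y) with h4 | ⟨h, hh, h4⟩ | ⟨h, hh, h4⟩
    · rw [h4] at hn3
      exact absurd (R.com_self _) hn3
    · exfalso
      apply hn3
      have h5 := (R.com_smul h R.x0 R.c).2 R.com_x0_c
      rwa [hh, h4] at h5
    · refine ⟨g * h, ?_, ?_⟩
      · have h6 : (g * h) • R.x0 = g • R.x0 := by rw [mul_smul, hh]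
        rw [← R.map_smul, h6]
      · have h6 : (g * h) • R.b = y := by rw [mul_smul, h4, smul_inv_smul]
        rw [← R.map_smul, h6]
  obtain ⟨g, hg1, hg2⟩ := key ha hb hn
  obtain ⟨k, hk1, hk2⟩ := key ha' hb' hn'
  refine ⟨k * g⁻¹, ?_, ?_⟩
  · rw [← hk1, ← hg1]; group
  · rw [← hk2, ← hg2]; group

theorem lk_sieve {p : ℕ} (h : UG.testBit p = true)
    (hx : ∀ x : Gen, x = .b ∨ x = .c ∨ x = .d ∨ x = .e ∨ x = .f ∨ x = .g ∨ x = .j ∨ x = .h ∨ x = .i →
      rho (gen x) p = p) : p = 0 ∨ p = 307840 ∨ p = 307872 := by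
  have h1 := sieve_lk
  simp only [seqB_eq] at h1
  have h2 : p ∈ [0, 307840, 307872] := by
    rw [← testBit_msk, ← Nat.eq_of_beq_eq_true h1]
    exact sv_spec (wok _ _) bl (sv_spec (wok _ _) bl (sv_spec (wok _ _) bl (sv_spec (wok _ _) bl
      (sv_spec (wok _ _) bl (sv_spec (wok _ _) bl (sv_spec (wok _ _) bl (sv_spec (wok _ _) bl (sv_spec (wok _ _) bl
        h (e_word (hx _ (by simp)))) (e_word (hx _ (by simp)))) (e_word (hx _ (by simp)))) (e_word (hx _ (by simp))))
        (e_word (hx _ (by simp)))) (e_word (hx _ (by simp)))) (e_word (hx _ (by simp)))) (e_word (hx _ (by simp))))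
        (e_word (hx _ (by simp)))
  simpa using h2

/-- a transposition inverting `d b` commutes with the transpositions commuting with `d` and `b` -/
theorem comm_of_inv {d b t z : Fi24} (hd : d ∈ L) (hb : b ∈ L) (ht : t ∈ L) (hz : z ∈ L) (hn : ¬ Commute d b)
    (hzd : Commute z d) (hzb : Commute z b) (hi : t * (d * b) * t⁻¹ = (d * b)⁻¹) : Commute z t := by
  by_contra hc
  have hz2 := Cfsg.Agent.R08.FiTwentyFour.sq hz
  have ht2 := Cfsg.Agent.R08.FiTwentyFour.sq ht
  have hd2 := Cfsg.Agent.R08.FiTwentyFour.sq hd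
  have hb2 := Cfsg.Agent.R08.FiTwentyFour.sq hb
  have hbr := (Cfsg.Agent.R08.FiTwentyFour.three hz ht).resolve_left hc
  have h3 : (z * t) ^ 3 = 1 := by
    calc (z * t) ^ 3 = (z * t * z) * (t * z * t) := by simp only [pow_succ, pow_zero, one_mul, mul_assoc]
      _ = (z * t * z) * (z * t * z) := by rw [hbr]
      _ = z * t * (z * z) * t * z := by simp only [mul_assoc]
      _ = z * (t * t) * z := by rw [hz2, mul_one]; simp only [mul_assoc]
      _ = 1 := by rw [ht2, mul_one, hz2]
  have hzu : Commute z (d * b) := hzd.mul_right hzb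
  set u := d * b with hu
  have h4 : (z * t) * u * (z * t)⁻¹ = u⁻¹ := by
    calc (z * t) * u * (z * t)⁻¹ = z * (t * u * t⁻¹) * z⁻¹ := by group
      _ = z * u⁻¹ * z⁻¹ := by rw [hi]
      _ = u⁻¹ := by rw [hzu.inv_right.eq, mul_inv_cancel_right]
  have h5 : ∀ v : Fi24, (z * t) * v⁻¹ * (z * t)⁻¹ = ((z * t) * v * (z * t)⁻¹)⁻¹ := fun v => by group
  have h6 : u = u⁻¹ := by
    calc u = (z * t) ^ 3 * u * ((z * t) ^ 3)⁻¹ := by rw [h3]; group
      _ = (z * t) * ((z * t) * ((z * t) * u * (z * t)⁻¹) * (z * t)⁻¹) * (z * t)⁻¹ := by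
          simp only [pow_succ, pow_zero, one_mul]; group
      _ = u⁻¹ := by rw [h4, h5, h4, inv_inv, h4]
  apply hn
  show d * b = b * d
  rw [← hu, h6, hu, mul_inv_rev, inv_eq_of_mul_eq_one_left hd2, inv_eq_of_mul_eq_one_left hb2]

/-- **Three transpositions invert `d b`.** -/
theorem inv3 {d b t : Fi24} (hd : d ∈ L) (hb : b ∈ L) (ht : t ∈ L) (hn : ¬ Commute d b)
    (hi : t * (d * b) * t⁻¹ = (d * b)⁻¹) : t = d ∨ t = b ∨ t = d * b * d := by
  have hlk : ¬ Commute (gen .l) (gen .k) := by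
    intro h
    have h1 : rho (gen .l) 307872 = 307872 := ((isPt_gen .k).comm_iff _).1 h
    have h2 : chkPt (nw [.l] false) 307872 307840 = true := by decide +kernel
    have h3 := rho_of_chkPt h2
    rw [word_one'] at h3
    rw [h1] at h3
    exact absurd h3 (by norm_num)
  obtain ⟨g, hg1, hg2⟩ := noncomm_trans hd hb (gen_mem .l) (gen_mem .k) hn hlk
  have ht' := Cfsg.Agent.R08.FiTwentyFour.conj ht g
  have hi' : (g * t * g⁻¹) * (gen .l * gen .k) * (g * t * g⁻¹)⁻¹ = (gen .l * gen .k)⁻¹ := by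
    rw [← hg1, ← hg2]
    calc (g * t * g⁻¹) * (g * d * g⁻¹ * (g * b * g⁻¹)) * (g * t * g⁻¹)⁻¹ = g * (t * (d * b) * t⁻¹) * g⁻¹ := by group
      _ = g * (d * b)⁻¹ * g⁻¹ := by rw [hi]
      _ = (g * d * g⁻¹ * (g * b * g⁻¹))⁻¹ := by group
  obtain ⟨p, hp⟩ := exists_pt ht'
  have hfix : ∀ x : Gen, x = .b ∨ x = .c ∨ x = .d ∨ x = .e ∨ x = .f ∨ x = .g ∨ x = .j ∨ x = .h ∨ x = .i →
      rho (gen x) p = p := by
    intro x hx
    rw [← hp.comm_iff]
    have c : ∀ x : Gen, x = .b ∨ x = .c ∨ x = .d ∨ x = .e ∨ x = .f ∨ x = .g ∨ x = .j ∨ x = .h ∨ x = .i →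
        Commute (gen x) (gen .l) ∧ Commute (gen x) (gen .k) := by
      have c1 : ∀ x : Gen, x = .b ∨ x = .c ∨ x = .d ∨ x = .e ∨ x = .f ∨ x = .g ∨ x = .j ∨ x = .h ∨ x = .i →
          chkPt (nw [x] false) 0 0 = true ∧ chkPt (nw [x] false) 307872 307872 = true := by
        rintro x (rfl | rfl | rfl | rfl | rfl | rfl | rfl | rfl | rfl) <;> constructor <;> decide +kernel
      intro x hx
      obtain ⟨a1, a2⟩ := c1 x hx
      have a3 := rho_of_chkPt a1
      have a4 := rho_of_chkPt a2
      rw [word_one'] at a3 a4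
      exact ⟨((isPt_gen .l).comm_iff _).2 a3, ((isPt_gen .k).comm_iff _).2 a4⟩
    exact comm_of_inv (gen_mem .l) (gen_mem .k) ht' (gen_mem x) hlk (c x hx).1 (c x hx).2 hi'
  have h1 := lk_sieve (bit hp) hfix
  have back : ∀ v w : Fi24, g * t * g⁻¹ = g * w * g⁻¹ → t = w := by
    intro _ w h
    exact mul_left_cancel (mul_right_cancel h)
  rcases h1 with rfl | rfl | rfl
  · left
    apply back 1
    rw [hg1]
    exact hp.inj (isPt_gen .l)
  · right; right
    apply back 1
    have h2 : IsPt (gen .l * gen .k * (gen .l)⁻¹) 307840 := by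
      apply (isPt_gen .k).conj'
      have h2 : chkPt (nw [.l] false) 307872 307840 = true := by decide +kernel
      have h3 := rho_of_chkPt h2
      rwa [word_one'] at h3
    have h3 : g * (d * b * d) * g⁻¹ = gen .l * gen .k * (gen .l)⁻¹ := by
      have h4 : (gen .l)⁻¹ = gen .l := inv_eq_of_mul_eq_one_left (Cfsg.Agent.R08.FiTwentyFour.sq (gen_mem .l))
      rw [h4, ← hg1, ← hg2]
      group
    rw [h3]
    exact hp.inj h2
  · right; left
    apply back 1
    rw [hg2]
    exact hp.inj (isPt_gen .k)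

end Cfsg.Agent.LThreeFi24.Base24
end

-- part: LThreeFi24/Red24
section
set_option linter.all false
open scoped Cfsg.Agent.FastGrp

/-!
# Reduction to `Fi23` (helper47, row Fi24' of S1806)
-/

set_option autoImplicit false
set_option maxRecDepth 100000

namespace Cfsg.Agent.LThreeFi24.Red24

open Cfsg Cfsg.Agent.SignalizersComponents
open Cfsg.Agent.LThreeFi24.Comp Cfsg.Agent.LThreeFi24.Base24
open Cfsg.Agent.LThree
open Cfsg.Spor (Fi24 Fi23)
open Cfsg.Agent.Fischer.Fi24Rep (gen)
open Cfsg.Agent.Fischer.Fi24Final (sgn)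
open Subgroup
open Cfsg.Agent.R08.FiTwentyFour (L facts)

/-- the condition for `Fi23` -/
def H23 : Prop := ∀ k : Fi23, orderOf k = 3 → Comps 3 ↥(centralizer ({k} : Set Fi23))

/-- the transpositions of the subgroup `X` -/
def DX (X : Subgroup Fi24) : Set ↥X := {y | (y : Fi24) ∈ L}

theorem tset (X : Subgroup Fi24) : TSet (DX X) := by
  refine ⟨?_, ?_, ?_⟩
  · intro a ha
    exact Subtype.ext (Cfsg.Agent.R08.FiTwentyFour.sq ha)
  · intro a ha g
    exact Cfsg.Agent.R08.FiTwentyFour.conj ha (g : Fi24)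
  · intro a ha b hb
    rcases Cfsg.Agent.R08.FiTwentyFour.three ha hb with h | h
    · exact Or.inl (Subtype.ext h)
    · exact Or.inr (Subtype.ext h)

/-- the kernel of `sgn` on `C_{C(l)}(x)` is `C_{Fi23}(k)` -/
theorem comps_l (h23 : H23) {x : Fi24} (hx : orderOf x = 3) (hxl : x * gen .l = gen .l * x) :
    Comps 3 ↥(centralizer ({(⟨x, mem_centralizer_singleton_iff.2 hxl⟩ : ↥(centralizer ({gen .l} : Set Fi24)))} :
      Set ↥(centralizer ({gen .l} : Set Fi24)))) := by
  have := Cfsg.Agent.R08.FiTwentyFour.finite_Fi24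
  have hsx : sgn x = 1 := by
    have h1 : sgn x ^ 3 = 1 := by rw [← map_pow, ← hx, pow_orderOf_eq_one, map_one]
    rcases Int.units_eq_one_or (sgn x) with h | h
    · exact h
    · rw [h] at h1
      exact absurd h1 (by decide)
  obtain ⟨k, hk⟩ := (facts.mem_range_iff x).2 ⟨hxl, hsx⟩
  have hko : orderOf k = 3 := by rw [← hx, ← hk, orderOf_injective facts.phi facts.phi_injective]
  let C : Subgroup Fi24 := centralizer ({gen .l} : Set Fi24)
  let x' : ↥C := ⟨x, mem_centralizer_singleton_iff.2 hxl⟩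
  let Y : Subgroup ↥C := centralizer ({x'} : Set ↥C)
  let f : ↥Y →* ℤˣ := sgn.comp (C.subtype.comp Y.subtype)
  have hs : Group.IsSolvable (↥Y ⧸ f.ker) := by
    have e : (↥Y ⧸ f.ker) ≃* ↥f.range := QuotientGroup.quotientKerEquivRange f
    have h1 : Group.IsSolvable ↥f.range := Group.isSolvable_of_comm fun a b => mul_comm a b
    exact Group.isSolvable_of_isSolvable_injective (f := e.toMonoidHom) e.injective
  refine Red.comps_of_normal f.ker hs ?_
  -- the isomorphism
  let φ : ↥(centralizer ({k} : Set Fi23)) →* ↥f.ker :=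
    { toFun := fun m => ⟨⟨⟨facts.phi (m : Fi23), mem_centralizer_singleton_iff.2 (facts.phi_comm _)⟩, by
        rw [mem_centralizer_singleton_iff]
        apply Subtype.ext
        show facts.phi (m : Fi23) * x = x * facts.phi (m : Fi23)
        rw [← hk, ← map_mul, mem_centralizer_singleton_iff.1 m.2, map_mul]⟩, by
        rw [MonoidHom.mem_ker]
        exact facts.sgn_phi _⟩
      map_one' := by
        apply Subtype.ext; apply Subtype.ext; apply Subtype.ext
        exact map_one _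
      map_mul' := fun a b => by
        apply Subtype.ext; apply Subtype.ext; apply Subtype.ext
        exact map_mul _ _ _ }
  have hφ : Function.Bijective φ := by
    constructor
    · intro a b hab
      have h1 : facts.phi (a : Fi23) = facts.phi (b : Fi23) :=
        congrArg (fun z : ↥f.ker => (((z : ↥Y) : ↥C) : Fi24)) hab
      exact Subtype.ext (facts.phi_injective h1)
    · rintro ⟨⟨⟨y, hyl⟩, hyx⟩, hys⟩
      have h1 : y * gen .l = gen .l * y := mem_centralizer_singleton_iff.1 hyl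
      have h2 : sgn y = 1 := hys
      obtain ⟨m, rfl⟩ := (facts.mem_range_iff y).2 ⟨h1, h2⟩
      refine ⟨⟨m, ?_⟩, rfl⟩
      rw [mem_centralizer_singleton_iff]
      apply facts.phi_injective
      rw [map_mul, map_mul, hk]
      exact congrArg Subtype.val (mem_centralizer_singleton_iff.1 hyx)
  exact (h23 k hko).congr (MulEquiv.ofBijective φ hφ)

/-- `C_X(d)`, `X = C_F(x)` -/
theorem comps_cd (h23 : H23) {x d : Fi24} (hx : orderOf x = 3) (hd : d ∈ L) (h : d * x = x * d) :
    Comps 3 ↥(centralizer ({(⟨d, mem_centralizer_singleton_iff.2 h⟩ : ↥(centralizer ({x} : Set Fi24)))} :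
      Set ↥(centralizer ({x} : Set Fi24)))) := by
  obtain ⟨g, hg⟩ := isConj_iff.1 (show IsConj (gen .l) d from hd)
  have hx' : orderOf (g⁻¹ * x * g) = 3 := by
    rw [← hx]
    have := MulEquiv.orderOf_eq (MulAut.conj g⁻¹) x
    rw [MulAut.conj_apply, inv_inv] at this
    exact this
  have hl : (g⁻¹ * x * g) * gen .l = gen .l * (g⁻¹ * x * g) := by
    have h1 : gen .l = g⁻¹ * d * g := by rw [← hg]; group
    rw [h1]
    calc g⁻¹ * x * g * (g⁻¹ * d * g) = g⁻¹ * (x * d) * g := by group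
      _ = g⁻¹ * (d * x) * g := by rw [h]
      _ = g⁻¹ * d * g * (g⁻¹ * x * g) := by group
  have h1 := comps_l h23 hx' hl
  -- conjugate by `g`
  refine (h1.congr ?_).congr (Red.centCent h).symm
  let e : ↥(centralizer ({gen .l} : Set Fi24)) ≃* ↥(centralizer ({d} : Set Fi24)) :=
    ((centralizer ({gen .l} : Set Fi24)).equivMapOfInjective (MulAut.conj g).toMonoidHom (MulAut.conj g).injective).trans
      (MulEquiv.subgroupCongr (by
        ext y
        constructor
        · rintro ⟨z, hz, rfl⟩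
          have hz' := mem_centralizer_singleton_iff.1 hz
          rw [mem_centralizer_singleton_iff]
          show g * z * g⁻¹ * d = d * (g * z * g⁻¹)
          rw [← hg]
          calc g * z * g⁻¹ * (g * gen .l * g⁻¹) = g * (z * gen .l) * g⁻¹ := by group
            _ = g * (gen .l * z) * g⁻¹ := by rw [hz']
            _ = g * gen .l * g⁻¹ * (g * z * g⁻¹) := by group
        · intro hy
          have hy' := mem_centralizer_singleton_iff.1 hy
          refine ⟨g⁻¹ * y * g, ?_, by show g * (g⁻¹ * y * g) * g⁻¹ = y; group⟩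
          rw [SetLike.mem_coe, mem_centralizer_singleton_iff]
          have h2 : gen .l = g⁻¹ * d * g := by rw [← hg]; group
          rw [h2]
          calc g⁻¹ * y * g * (g⁻¹ * d * g) = g⁻¹ * (y * d) * g := by group
            _ = g⁻¹ * (d * y) * g := by rw [hy']
            _ = g⁻¹ * d * g * (g⁻¹ * y * g) := by group))
  have he : ∀ y, ((e y : ↥(centralizer ({d} : Set Fi24))) : Fi24) = g * (y : Fi24) * g⁻¹ := fun y => rfl
  refine ((centralizer _).equivMapOfInjective e.toMonoidHom e.injective).trans (MulEquiv.subgroupCongr ?_)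
  ext y
  constructor
  · rintro ⟨z, hz, rfl⟩
    have hz' := congrArg Subtype.val (mem_centralizer_singleton_iff.1 hz)
    have hz2 : (z : Fi24) * (g⁻¹ * x * g) = (g⁻¹ * x * g) * (z : Fi24) := hz'
    rw [mem_centralizer_singleton_iff]
    apply Subtype.ext
    show g * (z : Fi24) * g⁻¹ * x = x * (g * (z : Fi24) * g⁻¹)
    calc g * (z : Fi24) * g⁻¹ * x = g * ((z : Fi24) * (g⁻¹ * x * g)) * g⁻¹ := by group
      _ = g * ((g⁻¹ * x * g) * (z : Fi24)) * g⁻¹ := by rw [hz2]
      _ = x * (g * (z : Fi24) * g⁻¹) := by group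
  · intro hy
    have hy' : (y : Fi24) * x = x * (y : Fi24) := congrArg Subtype.val (mem_centralizer_singleton_iff.1 hy)
    refine ⟨e.symm y, ?_, e.apply_symm_apply y⟩
    rw [SetLike.mem_coe, mem_centralizer_singleton_iff]
    apply Subtype.ext
    have h3 : (y : Fi24) = g * ((e.symm y : ↥(centralizer ({gen .l} : Set Fi24))) : Fi24) * g⁻¹ := by
      rw [← he, e.apply_symm_apply]
    show ((e.symm y : ↥(centralizer ({gen .l} : Set Fi24))) : Fi24) * (g⁻¹ * x * g) =
      (g⁻¹ * x * g) * ((e.symm y : ↥(centralizer ({gen .l} : Set Fi24))) : Fi24)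
    set w := ((e.symm y : ↥(centralizer ({gen .l} : Set Fi24))) : Fi24) with hw
    rw [h3] at hy'
    calc w * (g⁻¹ * x * g) = g⁻¹ * (g * w * g⁻¹ * x) * g := by group
      _ = g⁻¹ * (x * (g * w * g⁻¹)) * g := by rw [hy']
      _ = (g⁻¹ * x * g) * w := by group

/-- the fixed points of an element of order 3 -/
theorem exists_fixed {G : Type*} [Group G] {x : G} (hx : x ^ 3 = 1) (A : Set G) [Finite ↥A]
    (hA : ∀ a ∈ A, x * a * x⁻¹ ∈ A) (hc : ¬ 3 ∣ A.ncard) : ∃ a ∈ A, x * a = a * x := by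
  have hz : ∀ y ∈ zpowers x, ∀ a ∈ A, y * a * y⁻¹ ∈ A := by
    have h1 : ∀ n : ℕ, ∀ a ∈ A, x ^ n * a * (x ^ n)⁻¹ ∈ A := by
      intro n
      induction n with
      | zero => intro a ha; rwa [pow_zero, one_mul, inv_one, mul_one]
      | succ n ih =>
        intro a ha
        have h2 := ih _ (hA a ha)
        have e : x ^ n * (x * a * x⁻¹) * (x ^ n)⁻¹ = x ^ (n + 1) * a * (x ^ (n + 1))⁻¹ := by
          rw [pow_succ]; group
        rwa [e] at h2
    intro y hy a ha
    have hfin : IsOfFinOrder x := isOfFinOrder_iff_pow_eq_one.2 ⟨3, by norm_num, hx⟩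
    obtain ⟨n, rfl⟩ := (hfin.mem_powers_iff_mem_zpowers).2 hy
    exact h1 n a ha
  have hP : IsPGroup 3 ↥(zpowers x) := by
    rintro ⟨y, n, rfl⟩
    refine ⟨1, Subtype.ext ?_⟩
    show (x ^ n) ^ (3 ^ 1) = 1
    rw [pow_one, ← zpow_natCast, ← zpow_mul, mul_comm, zpow_mul, zpow_natCast, hx, one_zpow]
  have : Fact (Nat.Prime 3) := ⟨Nat.prime_three⟩
  let act : MulAction ↥(zpowers x) ↥A :=
    { smul := fun y a => ⟨(y : G) * (a : G) * (y : G)⁻¹, hz y y.2 a a.2⟩
      one_smul := fun a => Subtype.ext (by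
        show ((1 : ↥(zpowers x)) : G) * (a : G) * ((1 : ↥(zpowers x)) : G)⁻¹ = a
        simp)
      mul_smul := fun y z a => Subtype.ext (by
        show ((y * z : ↥(zpowers x)) : G) * (a : G) * ((y * z : ↥(zpowers x)) : G)⁻¹ =
          (y : G) * ((z : G) * (a : G) * (z : G)⁻¹) * (y : G)⁻¹
        simp only [Subgroup.coe_mul]
        group) }
  have hnd : ¬ 3 ∣ Nat.card ↥A := by rwa [Nat.card_coe_set_eq]
  obtain ⟨a, ha⟩ := hP.nonempty_fixed_point_of_prime_not_dvd_card ↥A hnd
  refine ⟨a, a.2, ?_⟩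
  have h1 : (⟨x, mem_zpowers x⟩ : ↥(zpowers x)) • a = a := ha _
  have h2 : x * (a : G) * x⁻¹ = a := congrArg Subtype.val h1
  exact mul_inv_eq_iff_eq_mul.1 h2

/-- a transposition commuting with `x` and not with `d` -/
theorem exists_noncomm {x d : Fi24} (hx : orderOf x = 3) (hd : d ∈ L) (h : d * x = x * d) :
    ∃ b ∈ L, b * x = x * b ∧ ¬ Commute d b := by
  have := Cfsg.Agent.R08.FiTwentyFour.finite_Fi24
  have hx3 : x ^ 3 = 1 := by rw [← hx, pow_orderOf_eq_one]
  let A : Set Fi24 := {b | b ∈ L ∧ ¬ Commute b d}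
  have hA : A.ncard = 275264 := by
    have h1 : L = A ∪ ({c | c ∈ L ∧ c ≠ d ∧ Commute c d} ∪ {d}) := by
      ext y
      constructor
      · intro hy
        by_cases h2 : Commute y d
        · by_cases h3 : y = d
          · exact Or.inr (Or.inr h3)
          · exact Or.inr (Or.inl ⟨hy, h3, h2⟩)
        · exact Or.inl ⟨hy, h2⟩
      · rintro (h2 | h2 | h2)
        · exact h2.1
        · exact h2.1
        · rw [h2]; exact hd
    have h2 : Disjoint A ({c | c ∈ L ∧ c ≠ d ∧ Commute c d} ∪ {d}) := by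
      rw [Set.disjoint_left]
      rintro y hy (h3 | h3)
      · exact hy.2 h3.2.2
      · exact hy.2 (by rw [h3])
    have h3 : Disjoint {c | c ∈ L ∧ c ≠ d ∧ Commute c d} {d} := by
      rw [Set.disjoint_left]
      rintro y hy h4
      exact hy.2.1 h4
    have h4 := congrArg Set.ncard h1
    rw [Set.ncard_union_eq h2, Set.ncard_union_eq h3, Cfsg.Agent.R08.FiTwentyFour.ncard_L,
      Cfsg.Agent.R08.FiTwentyFour.ncard_commuting hd, Set.ncard_singleton] at h4
    omega
  obtain ⟨b, hb, h1⟩ := exists_fixed hx3 A (by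
    rintro a ⟨ha, ha'⟩
    refine ⟨Cfsg.Agent.R08.FiTwentyFour.conj ha x, fun h2 => ha' ?_⟩
    have h3 : (x * a * x⁻¹) * d = d * (x * a * x⁻¹) := h2
    show a * d = d * a
    calc a * d = x⁻¹ * ((x * a * x⁻¹) * (x * d)) := by group
      _ = x⁻¹ * ((x * a * x⁻¹) * (d * x)) := by rw [h]
      _ = x⁻¹ * ((x * a * x⁻¹) * d) * x := by group
      _ = x⁻¹ * (d * (x * a * x⁻¹)) * x := by rw [h3]
      _ = x⁻¹ * (d * x) * a := by group
      _ = x⁻¹ * (x * d) * a := by rw [h]
      _ = d * a := by group) (by rw [hA]; norm_num)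
  exact ⟨b, hb.1, h1.symm, fun h2 => hb.2 h2.symm⟩

/-- **The reduction.** -/
theorem inC_or (h23 : H23) {x : Fi24} (hx : orderOf x = 3) {K : Subgroup (↥(centralizer ({x} : Set Fi24)) ⧸
      pPrimeCore 3 ↥(centralizer ({x} : Set Fi24)))} (hK : IsComponent K) (hnC : ¬ InC 3 ↥K)
    {d : ↥(centralizer ({x} : Set Fi24))} (hd : (d : Fi24) ∈ L) :
    ¬ ∀ k ∈ K, (d : ↥(centralizer ({x} : Set Fi24)) ⧸ pPrimeCore 3 ↥(centralizer ({x} : Set Fi24))) * k =
      k * (d : ↥(centralizer ({x} : Set Fi24)) ⧸ pPrimeCore 3 ↥(centralizer ({x} : Set Fi24))) := by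
  intro hT
  apply hnC
  have := Cfsg.Agent.R08.FiTwentyFour.finite_Fi24
  have hdx : (d : Fi24) * x = x * (d : Fi24) := mem_centralizer_singleton_iff.1 d.2
  obtain ⟨b, hb, hbx, hn⟩ := exists_noncomm hx hd hdx
  have hC := comps_cd h23 hx hd hdx
  refine CompB.inC_of_triv (tset _) hK (d := d) (b := ⟨b, mem_centralizer_singleton_iff.2 hbx⟩) hd hb ?_ ?_ hT hC
  · intro h
    exact hn (congrArg Subtype.val h)
  · intro t ht hi
    have h1 : (t : Fi24) * ((d : Fi24) * b) * (t : Fi24)⁻¹ = ((d : Fi24) * b)⁻¹ := congrArg Subtype.val hi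
    rcases inv3 hd hb ht hn h1 with h2 | h2 | h2
    · exact Or.inl (Subtype.ext h2)
    · exact Or.inr (Or.inl (Subtype.ext h2))
    · exact Or.inr (Or.inr (Subtype.ext h2))

/-- `5` divides `|C_F(x)|` if a component is not a `C_3`-group and `x` commutes with a transposition -/
theorem five_dvd (h23 : H23) {x : Fi24} (hx : orderOf x = 3) {K : Subgroup (↥(centralizer ({x} : Set Fi24)) ⧸
      pPrimeCore 3 ↥(centralizer ({x} : Set Fi24)))} (hK : IsComponent K) (hnC : ¬ InC 3 ↥K)
    {d : Fi24} (hd : d ∈ L) (hdx : d * x = x * d) : ∃ y : Fi24, orderOf y = 5 ∧ y * x = x * y := by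
  have := Cfsg.Agent.R08.FiTwentyFour.finite_Fi24
  have hO := Lib.Cores.pPrimeCore_normal (G := ↥(centralizer ({x} : Set Fi24))) 3
  have h1 := inC_or h23 hx hK hnC (d := ⟨d, mem_centralizer_singleton_iff.2 hdx⟩) hd
  have h2 : 5 ∣ Nat.card ↥K := by
    refine FG.five_dvd hK ((tset (centralizer ({x} : Set Fi24))).map (QuotientGroup.mk' _)
      (QuotientGroup.mk'_surjective _)) ⟨⟨d, mem_centralizer_singleton_iff.2 hdx⟩, hd, rfl⟩ h1
  have h3 : 5 ∣ Nat.card ↥(centralizer ({x} : Set Fi24)) :=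
    (h2.trans (card_subgroup_dvd_card K)).trans (card_quotient_dvd_card _)
  have : Fact (Nat.Prime 5) := ⟨by norm_num⟩
  obtain ⟨y, hy⟩ := exists_prime_orderOf_dvd_card' 5 h3
  exact ⟨y, by rw [← hy, Subgroup.orderOf_coe], mem_centralizer_singleton_iff.1 y.2⟩

end Cfsg.Agent.LThreeFi24.Red24
end
end
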