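import Cfsg.Agent.LThree.Red
import Cfsg.Agent.FastGrp
import Cfsg.Agent.Prune
set_option linter.all false
prune_inst 0x7f00000000000000000000000000000000000000000000000000000000000000000000000000000000000000000000000000000000000000000000000000000000000000000000000000000000000000003fffffffffffffffffffffffffffbeffbdffffffff
open scoped Cfsg.Agent.FastGrp

/-!
# No small components (helper40, row Fi24' of S1806, the elements of order 3 commuting with no transposition)

`H` finite; for every involution `t` of `H` there is an element `s` of order 3 commuting with `t` and a 3-subgroup `P`,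
centralized by `s`, normalized by `C_H(s)`, not centralized by `t`. Then no component `K` of `H / O_{3'}(H)` has a
quotient `K / Z(K)` which is rigid: an automorphism `σ`, `σ³ = 1`, fixing an involution and an element of order 3 inverted
by it, is trivial.
-/

set_option autoImplicit false

open scoped commutatorElement

namespace Cfsg.Agent.LThreeFi24.EmptyAbs

open Cfsg Subgroup Cfsg.Agent.SignalizersComponents Cfsg.Agent.LThree Cfsg.Agent.LThree.Red

universe u

/-- Rigidity. -/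
def Rigid (S : Type*) [Group S] : Prop :=
  ∀ (σ : MulAut S) (w t : S), (∀ x, σ (σ (σ x)) = x) → orderOf w = 3 → orderOf t = 2 → t * w * t⁻¹ = w⁻¹ →
    σ w = w → σ t = t → σ = 1

theorem Rigid.congr {S T : Type*} [Group S] [Group T] (e : S ≃* T) (h : Rigid S) : Rigid T := by
  intro σ w t h3 hw ht hwt hσw hσt
  have h1 := h ((e.trans σ).trans e.symm) (e.symm w) (e.symm t)
    (by
      intro x
      show e.symm (σ (e (e.symm (σ (e (e.symm (σ (e x)))))))) = x
      rw [e.apply_symm_apply, e.apply_symm_apply, h3, e.symm_apply_apply])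
    (by rw [MulEquiv.orderOf_eq, hw]) (by rw [MulEquiv.orderOf_eq, ht])
    (by rw [← map_mul, ← map_inv, ← map_mul, hwt, map_inv])
    (by show e.symm (σ (e (e.symm w))) = _; rw [e.apply_symm_apply, hσw])
    (by show e.symm (σ (e (e.symm t))) = _; rw [e.apply_symm_apply, hσt])
  ext x
  have h2 : e.symm (σ (e (e.symm x))) = e.symm x := congrArg (fun f : MulAut S => f (e.symm x)) h1
  rw [e.apply_symm_apply] at h2
  exact e.symm.injective h2

/-- The hypothesis on the involutions of `H`. -/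
def Inv (H : Type*) [Group H] : Prop :=
  ∀ t : H, orderOf t = 2 → ∃ s : H, orderOf s = 3 ∧ s * t = t * s ∧ ∃ P : Subgroup H, IsPGroup 3 ↥P ∧
    (∀ p ∈ P, p * s = s * p) ∧ (∀ g, g * s = s * g → ∀ p ∈ P, g * p * g⁻¹ ∈ P) ∧ ∃ j ∈ P, j * t ≠ t * j

theorem eq_one_of_mem {G : Type*} [Group G] [Finite G] {P O : Subgroup G} (hP : IsPGroup 3 ↥P)
    (hO : (Nat.card ↥O).Coprime 3) {g : G} (h1 : g ∈ P) (h2 : g ∈ O) : g = 1 := by
  have : Fact (Nat.Prime 3) := ⟨Nat.prime_three⟩
  obtain ⟨k, hk⟩ := hP ⟨g, h1⟩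
  have h3 : orderOf g ∣ 3 ^ k := orderOf_dvd_of_pow_eq_one (congrArg Subtype.val hk)
  have h4 : orderOf g ∣ Nat.card ↥O := by
    have := orderOf_dvd_natCard (⟨g, h2⟩ : ↥O)
    rwa [Subgroup.orderOf_mk] at this
  have h5 : (Nat.card ↥O).Coprime (3 ^ k) := hO.pow_right k
  exact orderOf_eq_one_iff.1 (Nat.eq_one_of_dvd_coprimes h5 h4 h3)

/-- `O_{3'}(H)` has odd order. -/
theorem odd_core {H : Type u} [Group H] [Finite H] (hI : Inv H) : Odd (Nat.card ↥(pPrimeCore 3 H)) := by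
  have : Fact (Nat.Prime 2) := ⟨Nat.prime_two⟩
  have hn := Lib.Cores.pPrimeCore_normal (G := H) 3
  by_contra hodd
  rw [Nat.not_odd_iff_even] at hodd
  obtain ⟨⟨t, htO⟩, ht⟩ := exists_prime_orderOf_dvd_card' 2 (even_iff_two_dvd.1 hodd)
  rw [Subgroup.orderOf_mk] at ht
  obtain ⟨s, -, hst, P, hP, -, hnP, j, hj, hjt⟩ := hI t ht
  apply hjt
  have htt : t * t = 1 := by rw [← pow_two, ← ht, pow_orderOf_eq_one]
  have h1 : t * j * t⁻¹ ∈ P := hnP t hst.symm j hj
  have h2 : (t * j * t⁻¹) * j⁻¹ ∈ P := P.mul_mem h1 (P.inv_mem hj)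
  have h3 : (t * j * t⁻¹) * j⁻¹ ∈ pPrimeCore 3 H := by
    have e : (t * j * t⁻¹) * j⁻¹ = t * (j * t⁻¹ * j⁻¹) := by group
    rw [e]
    exact mul_mem htO (hn.conj_mem _ (inv_mem htO) j)
  have h4 := eq_one_of_mem hP (Lib.Cores.pPrimeCore_coprime 3) h2 h3
  have h5 : t * j * t⁻¹ = j := mul_inv_eq_one.1 h4
  exact (mul_inv_eq_iff_eq_mul.1 h5).symm

/-- An automorphism of a quasisimple group trivial modulo the centre is trivial. -/
theorem eq_one_of_quot {K : Type*} [Group K] (hK : Group.IsPerfect K) (f : MulAut K)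
    (h : ∀ x : K, f x * x⁻¹ ∈ center K) : f = 1 := by
  have hc : ∀ x y : K, y * (f x * x⁻¹) = (f x * x⁻¹) * y := fun x y => mem_center_iff.1 (h x) y
  have h1 : commutator K ≤ MonoidHom.eqLocus f.toMonoidHom (MonoidHom.id K) := by
    rw [commutator_def]
    refine commutator_le.2 fun x _ y _ => ?_
    show f ⁅x, y⁆ = ⁅x, y⁆
    rw [map_commutatorElement, commutatorElement_def, commutatorElement_def]
    have hx : f x = (f x * x⁻¹) * x := by group
    have hy : f y = (f y * y⁻¹) * y := by group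
    have hcx := hc x
    have hcy := hc y
    generalize f x * x⁻¹ = c at *
    generalize f y * y⁻¹ = d at *
    rw [hx, hy]
    have e1 : ∀ w, c * w * c⁻¹ = w := fun w => by rw [← hcx w, mul_inv_cancel_right]
    have e2 : ∀ w, d * w * d⁻¹ = w := fun w => by rw [← hcy w, mul_inv_cancel_right]
    calc c * x * (d * y) * (c * x)⁻¹ * (d * y)⁻¹ = c * ((x * d) * y * x⁻¹) * c⁻¹ * (y⁻¹ * d⁻¹) := by group
      _ = d * (x * y * x⁻¹ * y⁻¹) * d⁻¹ := by rw [e1, hcy x]; group
      _ = x * y * x⁻¹ * y⁻¹ := e2 _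
  ext x
  have h2 : x ∈ commutator K := by rw [hK.commutator_eq_top]; exact mem_top x
  exact h1 h2

/-- Components of a group `X` with `O_{3'}(X) = 1` (`X = H / O_{3'}(H)`). -/
theorem main_abs {X : Type u} [Group X] [Finite X] (hX : pPrimeCore 3 X = ⊥) {K : Subgroup X} (hK : IsComponent K)
    (hR : Rigid (↥K ⧸ center ↥K)) {s t : X} {P : Subgroup X} (ht : orderOf t = 2) (htK : t ∈ K)
    (hs : s * s * s = 1) (hst : s * t = t * s) (hP : IsPGroup 3 ↥P) (hPs : ∀ p ∈ P, p * s = s * p)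
    (hnP : ∀ g, g * s = s * g → ∀ p ∈ P, g * p * g⁻¹ ∈ P) {j : X} (hj : j ∈ P) (hjt : j * t ≠ t * j) : False := by
  have : Fact (Nat.Prime 3) := ⟨Nat.prime_three⟩
  have : Fact (Nat.Prime 2) := ⟨Nat.prime_two⟩
  have htt : t * t = 1 := by rw [← pow_two, ← ht, pow_orderOf_eq_one]
  have htinv : t⁻¹ = t := inv_eq_of_mul_eq_one_left htt
  have hZ : IsPGroup 3 ↥(center ↥K) := isPGroup_center_comp Nat.prime_three hX hK.1
  -- `t` is not central in `K`
  have htZ : (⟨t, htK⟩ : ↥K) ∉ center ↥K := by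
    intro h
    obtain ⟨k, hk⟩ := hZ ⟨_, h⟩
    have h1 : t ^ 3 ^ k = 1 := congrArg (fun z : ↥(center ↥K) => ((z : ↥K) : X)) hk
    have h2 : orderOf t ∣ 3 ^ k := orderOf_dvd_of_pow_eq_one h1
    rw [ht] at h2
    have h3 := (Nat.prime_dvd_prime_iff_eq Nat.prime_two Nat.prime_three).1 (Nat.prime_two.dvd_of_dvd_pow h2)
    omega
  have htne : ∃ y ∈ K, y * t ≠ t * y := by
    by_contra hcon
    push Not at hcon
    exact htZ (mem_center_iff.2 fun y => Subtype.ext (hcon y y.2))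
  -- an element commuting with `t` normalises `K`
  have hnorm : ∀ g : X, (g * t * g⁻¹) * t = t * (g * t * g⁻¹) → ((g * t * g⁻¹) * t) ^ 3 ≠ (g * t * g⁻¹) * t ∨
      g * t * g⁻¹ = t → K.map (MulAut.conj g).toMonoidHom = K := by
    intro g hg hor
    by_contra hne
    have hKg := Components.isComponent_conj g hK
    have hc := Components.component_le_centralizer_of_ne hK hKg (Ne.symm hne)
    have h1 : ∀ y ∈ K, y * (g * t * g⁻¹) = (g * t * g⁻¹) * y := by
      intro y hy
      have := hc hy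
      rw [mem_centralizer_iff] at this
      exact (this (g * t * g⁻¹) ⟨t, htK, rfl⟩).symm
    rcases hor with hor | hor
    · apply hor
      have h2 : ((g * t * g⁻¹) * t) * ((g * t * g⁻¹) * t) = 1 := by
        calc ((g * t * g⁻¹) * t) * ((g * t * g⁻¹) * t) = (g * t * g⁻¹) * (t * (g * t * g⁻¹)) * t := by group
          _ = (g * t * g⁻¹) * ((g * t * g⁻¹) * t) * t := by rw [hg]
          _ = g * (t * t) * g⁻¹ * (t * t) := by group
          _ = 1 := by rw [htt]; group
      rw [pow_succ, pow_two, h2, one_mul]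
    · obtain ⟨y, hy, hyt⟩ := htne
      rw [hor] at h1
      exact hyt (h1 y hy)
  have hKs : K.map (MulAut.conj s).toMonoidHom = K := by
    apply hnorm s
    · rw [hst, mul_inv_cancel_right]
    · right; rw [hst, mul_inv_cancel_right]
  have htP : ∀ p ∈ P, t * p * t⁻¹ ∈ P := hnP t hst.symm
  -- elements of `P` normalise `K`
  have hKP : ∀ p ∈ P, K.map (MulAut.conj p).toMonoidHom = K := by
    intro p hp
    by_contra hne
    have hKg := Components.isComponent_conj p hK
    have hc := Components.component_le_centralizer_of_ne hK hKg (Ne.symm hne)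
    have h1 : t * (p * t * p⁻¹) = (p * t * p⁻¹) * t := by
      have := hc htK
      rw [mem_centralizer_iff] at this
      exact (this (p * t * p⁻¹) ⟨t, htK, rfl⟩).symm
    have h2 : p * (t * p⁻¹ * t⁻¹) ∈ P := P.mul_mem hp (htP _ (P.inv_mem hp))
    have e : p * (t * p⁻¹ * t⁻¹) = (p * t * p⁻¹) * t := by rw [htinv]; group
    rw [e] at h2
    have h3 : ((p * t * p⁻¹) * t) * ((p * t * p⁻¹) * t) = 1 := by
      calc ((p * t * p⁻¹) * t) * ((p * t * p⁻¹) * t) = (p * t * p⁻¹) * (t * (p * t * p⁻¹)) * t := by group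
        _ = (p * t * p⁻¹) * ((p * t * p⁻¹) * t) * t := by rw [h1]
        _ = p * (t * t) * p⁻¹ * (t * t) := by group
        _ = 1 := by rw [htt]; group
    obtain ⟨k, hk⟩ := hP ⟨_, h2⟩
    have h4 : orderOf ((p * t * p⁻¹) * t) ∣ 3 ^ k := orderOf_dvd_of_pow_eq_one (congrArg Subtype.val hk)
    have h5 : orderOf ((p * t * p⁻¹) * t) ∣ 2 := orderOf_dvd_of_pow_eq_one (by rw [pow_two]; exact h3)
    have h6 : orderOf ((p * t * p⁻¹) * t) = 1 :=
      Nat.eq_one_of_dvd_coprimes (Nat.Coprime.pow_right k (by norm_num : Nat.Coprime 2 3)) h5 h4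
    have h7 : p * t * p⁻¹ = t := by
      have := eq_inv_of_mul_eq_one_left (orderOf_eq_one_iff.1 h6)
      rwa [htinv] at this
    exact hne (hnorm p (by rw [h7]) (Or.inr h7))
  -- an element of `P ⊓ K` inverted by `t`
  have hjK : j * t * j⁻¹ ∈ K := by
    have := hKP j hj
    rw [← this]
    exact ⟨t, htK, rfl⟩
  set w0 := (j * t * j⁻¹) * t with hw0
  have hw0K : w0 ∈ K := K.mul_mem hjK htK
  have hw0P : w0 ∈ P := by
    have h2 : j * (t * j⁻¹ * t⁻¹) ∈ P := P.mul_mem hj (htP _ (P.inv_mem hj))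
    have e : j * (t * j⁻¹ * t⁻¹) = w0 := by rw [hw0, htinv]; group
    rwa [e] at h2
  have hw01 : w0 ≠ 1 := by
    intro h
    apply hjt
    have h1 : j * t * j⁻¹ = t := by
      have := eq_inv_of_mul_eq_one_left h
      rwa [htinv] at this
    exact mul_inv_eq_iff_eq_mul.1 h1
  have hw0t : t * w0 * t⁻¹ = w0⁻¹ := by
    rw [hw0, mul_inv_rev, htinv]
    calc t * (j * t * j⁻¹ * t) * t = t * (j * t * j⁻¹) * (t * t) := by group
      _ = t * (j * t * j⁻¹)⁻¹ := by
        rw [htt, mul_one]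
        congr 1
        rw [mul_inv_rev, mul_inv_rev, htinv, inv_inv]
        group
  -- an element of order 3
  obtain ⟨k, hk⟩ := hP ⟨w0, hw0P⟩
  have hk' : w0 ^ 3 ^ k = 1 := congrArg Subtype.val hk
  obtain ⟨m, hm⟩ : ∃ m, orderOf (w0 ^ m) = 3 := by
    obtain ⟨i, -, hi⟩ := (Nat.dvd_prime_pow Nat.prime_three).1 (orderOf_dvd_of_pow_eq_one hk')
    have hi0 : i ≠ 0 := by
      rintro rfl
      rw [pow_zero] at hi
      exact hw01 (orderOf_eq_one_iff.1 hi)
    obtain ⟨i, rfl⟩ := Nat.exists_eq_succ_of_ne_zero hi0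
    refine ⟨3 ^ i, ?_⟩
    rw [orderOf_pow' _ (pow_ne_zero _ (by norm_num)), hi, Nat.succ_eq_add_one, pow_succ,
      Nat.gcd_eq_right (Dvd.intro _ rfl), Nat.mul_div_cancel_left _ (pow_pos (by norm_num) _)]
  set w := w0 ^ m with hw
  have hwK : w ∈ K := K.pow_mem hw0K m
  have hwP : w ∈ P := P.pow_mem hw0P m
  have hwt : t * w * t⁻¹ = w⁻¹ := by
    rw [hw, ← conj_pow, hw0t, inv_pow]
  have hws : s * w * s⁻¹ = w := by rw [← hPs w hwP, mul_inv_cancel_right]
  have hw3 : w ^ 3 = 1 := by rw [← hm, pow_orderOf_eq_one]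
  have hw1 : w ≠ 1 := by
    intro h
    rw [h, orderOf_one] at hm
    omega
  have hww : w⁻¹ ≠ w := by
    intro h
    apply hw1
    have h1 : w * w = 1 := by
      nth_rewrite 1 [← h]
      exact inv_mul_cancel w
    calc w = w ^ 3 * (w * w)⁻¹ := by group
      _ = 1 := by rw [hw3, h1]; group
  -- the automorphism
  have hmem : ∀ y : X, y ∈ K → s * y * s⁻¹ ∈ K := by
    intro y hy
    rw [← hKs]
    exact ⟨y, hy, rfl⟩
  have hs' : s⁻¹ = s * s := inv_eq_of_mul_eq_one_left hs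
  let τ : MulAut ↥K :=
    { toFun := fun y => ⟨s * y * s⁻¹, hmem y y.2⟩
      invFun := fun y => ⟨s * (s * y * s⁻¹) * s⁻¹, hmem _ (hmem y y.2)⟩
      left_inv := by
        intro y
        apply Subtype.ext
        show s * (s * (s * y * s⁻¹) * s⁻¹) * s⁻¹ = y
        calc s * (s * (s * (y : X) * s⁻¹) * s⁻¹) * s⁻¹ = (s * s * s) * y * (s * s * s)⁻¹ := by group
          _ = y := by rw [hs]; group
      right_inv := by
        intro y
        apply Subtype.ext
        show s * (s * (s * y * s⁻¹) * s⁻¹) * s⁻¹ = y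
        calc s * (s * (s * (y : X) * s⁻¹) * s⁻¹) * s⁻¹ = (s * s * s) * y * (s * s * s)⁻¹ := by group
          _ = y := by rw [hs]; group
      map_mul' := by
        intro a b
        apply Subtype.ext
        show s * (a * b) * s⁻¹ = (s * a * s⁻¹) * (s * b * s⁻¹)
        group }
  have hτ : ∀ y, ((τ y : ↥K) : X) = s * y * s⁻¹ := fun _ => rfl
  have hτ3 : ∀ y, τ (τ (τ y)) = y := by
    intro y
    apply Subtype.ext
    rw [hτ, hτ, hτ]
    calc s * (s * (s * (y : X) * s⁻¹) * s⁻¹) * s⁻¹ = (s * s * s) * y * (s * s * s)⁻¹ := by group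
      _ = y := by rw [hs]; group
  -- on the quotient
  let Zt := center ↥K
  have hZt : Zt.map τ.toMonoidHom = Zt := (Subgroup.characteristic_iff_map_eq.1 inferInstance) τ
  let σ : MulAut (↥K ⧸ center ↥K) := QuotientGroup.congr Zt Zt τ hZt
  have hσ : ∀ y : ↥K, σ (QuotientGroup.mk y) = QuotientGroup.mk (τ y) := fun _ => rfl
  have hwZ : (⟨w, hwK⟩ : ↥K) ∉ center ↥K := by
    intro h
    have h1 := congrArg Subtype.val (mem_center_iff.1 h ⟨t, htK⟩)
    have h2 : t * w = w * t := h1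
    rw [h2, mul_inv_cancel_right] at hwt
    exact hww hwt.symm
  have hσ1 : σ = 1 := by
    apply hR σ (QuotientGroup.mk ⟨w, hwK⟩) (QuotientGroup.mk ⟨t, htK⟩)
    · intro x
      obtain ⟨y, rfl⟩ := QuotientGroup.mk_surjective x
      rw [hσ, hσ, hσ, hτ3]
    · apply orderOf_eq_prime
      · rw [← QuotientGroup.mk_pow]
        have : (⟨w, hwK⟩ : ↥K) ^ 3 = 1 := Subtype.ext hw3
        rw [this]; rfl
      · intro h
        exact hwZ ((QuotientGroup.eq_one_iff _).1 h)
    · apply orderOf_eq_prime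
      · rw [← QuotientGroup.mk_pow]
        have : (⟨t, htK⟩ : ↥K) ^ 2 = 1 := Subtype.ext (by rw [← ht]; exact pow_orderOf_eq_one t)
        rw [this]; rfl
      · intro h
        exact htZ ((QuotientGroup.eq_one_iff _).1 h)
    · rw [← QuotientGroup.mk_inv, ← QuotientGroup.mk_mul, ← QuotientGroup.mk_mul, ← QuotientGroup.mk_inv]
      congr 1
      exact Subtype.ext hwt
    · rw [hσ]
      congr 1
      exact Subtype.ext hws
    · rw [hσ]
      congr 1
      exact Subtype.ext (by rw [hτ]; show s * t * s⁻¹ = t; rw [hst, mul_inv_cancel_right])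
  have hτ1 : τ = 1 := by
    apply eq_one_of_quot (Components.quasisimple_isPerfect hK.2)
    intro x
    have h1 : σ (QuotientGroup.mk x) = QuotientGroup.mk x := by rw [hσ1]; rfl
    rw [hσ, QuotientGroup.eq] at h1
    have h2 : x * ((τ x)⁻¹ * x)⁻¹ * x⁻¹ ∈ center ↥K :=
      (inferInstance : (center ↥K).Normal).conj_mem _ (inv_mem h1) x
    have e : x * ((τ x)⁻¹ * x)⁻¹ * x⁻¹ = τ x * x⁻¹ := by
      rw [mul_inv_rev, inv_inv]; group
    rwa [e] at h2
  have hcomm : ∀ y ∈ K, y * s = s * y := by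
    intro y hy
    have h1 : ((τ ⟨y, hy⟩ : ↥K) : X) = y := by rw [hτ1]; rfl
    rw [hτ] at h1
    have h2 : s * y * s⁻¹ = y := h1
    exact (mul_inv_eq_iff_eq_mul.1 h2).symm
  -- `P ⊓ K` is normal in `K`
  let N : Subgroup ↥K := P.subgroupOf K
  have hN : N.Normal := by
    refine ⟨fun n hn g => ?_⟩
    rw [mem_subgroupOf] at hn ⊢
    exact hnP g (hcomm g g.2) n hn
  have hwN : (⟨w, hwK⟩ : ↥K) ∈ N := mem_subgroupOf.2 hwP
  rcases (Components.quasisimple_normal hK.2 N hN).symm with h | h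
  · -- `N ≤ Z(K)`
    exact hwZ (h hwN)
  · -- `N = K`
    have h1 : (⟨t, htK⟩ : ↥K) ∈ N := by rw [h]; exact mem_top _
    obtain ⟨k, hk⟩ := hP ⟨t, h1⟩
    have h2 : t ^ 3 ^ k = 1 := congrArg Subtype.val hk
    have h3 : orderOf t ∣ 3 ^ k := orderOf_dvd_of_pow_eq_one h2
    rw [ht] at h3
    have h4 := (Nat.prime_dvd_prime_iff_eq Nat.prime_two Nat.prime_three).1 (Nat.prime_two.dvd_of_dvd_pow h3)
    omega

/-- **Main lemma.** -/
theorem main {H : Type u} [Group H] [Finite H]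
    (FT : ∀ (K : Type u) [Group K] [Finite K], Odd (Nat.card K) → Group.IsSolvable K) (hI : Inv H)
    {K : Subgroup (H ⧸ pPrimeCore 3 H)} (hK : IsComponent K) : ¬ Rigid (↥K ⧸ center ↥K) := by
  intro hR
  have : Fact (Nat.Prime 2) := ⟨Nat.prime_two⟩
  have : Fact (Nat.Prime 3) := ⟨Nat.prime_three⟩
  have hn := Lib.Cores.pPrimeCore_normal (G := H) 3
  have hX : pPrimeCore 3 (H ⧸ pPrimeCore 3 H) = ⊥ := Lib.Cores.pPrimeCore_quotient_pPrimeCore 3
  have hco : (Nat.card ↥(pPrimeCore 3 H)).Coprime 3 := Lib.Cores.pPrimeCore_coprime 3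
  have hev : 2 ∣ Nat.card ↥K := by
    rw [← even_iff_two_dvd]
    by_contra hodd
    rw [Nat.not_even_iff_odd] at hodd
    exact Components.quasisimple_not_isSolvable hK.2 (FT _ hodd)
  obtain ⟨⟨v, hvK⟩, hv⟩ := exists_prime_orderOf_dvd_card' 2 hev
  rw [Subgroup.orderOf_mk] at hv
  obtain ⟨t, ht, rfl⟩ := exists_involution_lift (pPrimeCore 3 H) (odd_core hI) hv
  obtain ⟨s, hs, hst, P, hP, hPs, hnP, j, hj, hjt⟩ := hI t ht
  have hcm := centralizer_mk Nat.prime_three (pPrimeCore 3 H) hco hs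
  have hss : s * s * s = 1 := by
    have := pow_orderOf_eq_one s
    rw [hs, pow_succ, pow_two] at this
    exact this
  set π := QuotientGroup.mk' (pPrimeCore 3 H) with hπ
  refine main_abs hX hK hR (s := π s) (t := π t) (P := P.map π) (j := π j) hv hvK ?_ ?_ (hP.map π) ?_ ?_
    ⟨j, hj, rfl⟩ ?_
  · rw [← map_mul, ← map_mul, hss, map_one]
  · rw [← map_mul, ← map_mul, hst]
  · rintro _ ⟨p, hp, rfl⟩
    rw [← map_mul, ← map_mul, hPs p hp]
  · rintro g hg _ ⟨p, hp, rfl⟩
    have h1 : g ∈ centralizer ({(π s)} : Set (H ⧸ pPrimeCore 3 H)) := mem_centralizer_singleton_iff.2 hg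
    rw [hcm] at h1
    obtain ⟨g, hg', rfl⟩ := h1
    exact ⟨g * p * g⁻¹, hnP g (mem_centralizer_singleton_iff.1 hg') p hp, by rw [map_mul, map_mul, map_inv]⟩
  · intro h
    apply hjt
    rw [← map_mul, ← map_mul] at h
    have h1 : (t * j)⁻¹ * (j * t) ∈ pPrimeCore 3 H := QuotientGroup.eq.1 h.symm
    have h2 : (t * j)⁻¹ * (j * t) ∈ P := by
      have e : (t * j)⁻¹ * (j * t) = j⁻¹ * (t⁻¹ * j * t⁻¹⁻¹) := by group
      rw [e]
      refine P.mul_mem (P.inv_mem hj) (hnP t⁻¹ ?_ j hj)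
      have : Commute s t := hst
      exact this.symm.inv_left.eq
    have h3 := eq_one_of_mem hP hco h2 h1
    exact (inv_mul_eq_one.1 h3).symm

end Cfsg.Agent.LThreeFi24.EmptyAbs
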