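import Cfsg.Agent.H841.Phi_m3
import Cfsg.Agent.OddHalf.D4.Spor.FiTF_m3
import Cfsg.Agent.KFacts.FiTF.FrameF
import Cfsg.Agent.PreUniq.Fi24S
import Cfsg.Agent.LThreeFi24.EmptyAbs
import Cfsg.Agent.LThreeFi24N.Final
import Cfsg.Agent.Lib.ThompsonPQ
import Cfsg.Agent.FastGrp
import Cfsg.Agent.Prune
set_option linter.all false

section
prune_inst 0x7f00000000000000000000000000000000000000000000000000000000000000000000000000000000000000000000000000000000000000000000000000000000000000000000000000000000000000003fffffffffffffffffffffffffffbeffbdffffffff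

-- part: LThreeFi24/EmptyInv
section
set_option linter.all false
open scoped Cfsg.Agent.FastGrp

-- merged: Cfsg.Agent.LThreeFi24.EmptyTwo
section

/-!
# `Fi24'`: the elements of order 3 commuting with no transposition (helper6, for helper40's row of S1806)

* `invol` : the involutions commuting with such an element are conjugate to `z`;
* `not_five` : no element of order 5 commutes with such an element.
-/

set_option autoImplicit false
set_option maxRecDepth 100000

namespace Cfsg.Agent.LThreeFi24.EmptyTwo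

open Subgroup Cfsg Cfsg.Spor
open Cfsg.Agent.Lib.PermNet Cfsg.Agent.Lib.PermNetPt Cfsg.Agent.Fischer.Fi24RepDef Cfsg.Agent.Fischer.Fi24Rep
open Cfsg.Agent.R08.FiTwentyFour (L gen_mem_L)
open Cfsg.Agent.R08.TetTwo (IsTet)
open Cfsg.Agent.KFacts.FiTF.Defs (z)
open Cfsg.Agent.LThreeFi24.SNine

/-- the involutions of `Fi24'` commuting with `x` -/
theorem invol_aux {x t : Fi24} (hx : x ^ 3 = 1) (hd : ∀ d ∈ L, d * x ≠ x * d) (ht : t ∈ commutator Fi24)
    (ht2 : t * t = 1) (ht1 : t ≠ 1) (hxt : t * x = x * t) : ∃ g ∈ commutator Fi24, g * t * g⁻¹ = z := by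
  rcases R08.TetFi24C.facts.invol t ht ht2 ht1 with ⟨a, ha, b, hb, hne, hab, rfl⟩ | ⟨a, b, c, d, hT⟩
  · exfalso
    have h1 : a * b = x * a * x⁻¹ * (x * b * x⁻¹) := by
      calc a * b = (a * b) * x * x⁻¹ := by group
        _ = x * (a * b) * x⁻¹ := by rw [hxt]
        _ = _ := by group
    have hab' : Commute (x * a * x⁻¹) (x * b * x⁻¹) := by
      show x * a * x⁻¹ * (x * b * x⁻¹) = x * b * x⁻¹ * (x * a * x⁻¹)
      calc x * a * x⁻¹ * (x * b * x⁻¹) = x * (a * b) * x⁻¹ := by group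
        _ = x * (b * a) * x⁻¹ := by rw [hab.eq]
        _ = _ := by group
    rcases R08.TetBasic.pair_unique R08.TetFi24C.facts.tr ha hb (R08.FiTwentyFour.conj ha x)
      (R08.FiTwentyFour.conj hb x) hab hne hab' h1 with ⟨h2, -⟩ | ⟨h2, h3⟩
    · exact hd a ha (mul_inv_eq_iff_eq_mul.1 h2).symm
    · have h4 : Commute (x ^ 2) a := by
        show x ^ 2 * a = a * x ^ 2
        rw [← mul_inv_eq_iff_eq_mul]
        calc x ^ 2 * a * (x ^ 2)⁻¹ = x * (x * a * x⁻¹) * x⁻¹ := by rw [pow_two]; group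
          _ = a := by rw [h2, h3]
      have h5 : (x ^ 2) ^ 2 = x := by
        rw [← pow_mul, show 2 * 2 = 3 + 1 from rfl, pow_succ, hx, one_mul]
      have h6 := h4.pow_left 2
      rw [h5] at h6
      exact hd a ha h6.eq.symm
  · obtain ⟨g, hg, h1, h2, h3, h4⟩ := R08.TetBig.quad R08.TetBigInst.hyp hT KFacts.FiTF.Order.hT
    refine ⟨g, hg, ?_⟩
    calc g * t * g⁻¹ = g * (a * b * c * d) * g⁻¹ := by rw [hT.prod]
      _ = (g * a * g⁻¹) * (g * b * g⁻¹) * (g * c * g⁻¹) * (g * d * g⁻¹) := by group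
      _ = z := by rw [h1, h2, h3, h4, KFacts.FiTF.Order.hT.prod]

/-- **(INVOL)** the involutions commuting with `x` are conjugate to `z` -/
theorem invol {x t : Spor.Fi24'} (hx : orderOf x = 3) (he : ∀ d ∈ L, d * (x : Fi24) ≠ (x : Fi24) * d)
    (ht : orderOf t = 2) (hxt : t * x = x * t) :
    ∃ g : Spor.Fi24', (g : Fi24) * (t : Fi24) * (g : Fi24)⁻¹ = z := by
  have hx3 : (x : Fi24) ^ 3 = 1 := by
    have h1 : x ^ 3 = 1 := by rw [← hx, pow_orderOf_eq_one]
    exact congrArg Subtype.val h1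
  have ht2 : t ^ 2 = 1 := by rw [← ht, pow_orderOf_eq_one]
  obtain ⟨g, hg, h⟩ := invol_aux (t := (t : Fi24)) hx3 he t.2 (by
    have h1 : t * t = 1 := by rw [← pow_two, ht2]
    exact congrArg Subtype.val h1) (by
    intro h1
    have h2 : t = 1 := Subtype.ext h1
    rw [h2, orderOf_one] at ht
    omega) (congrArg Subtype.val hxt)
  exact ⟨⟨g, hg⟩, h⟩

/-- **(FIVE)** no element of order 5 commutes with `x` -/
theorem not_five {x : Spor.Fi24'} (hx : orderOf x = 3) (he : ∀ d ∈ L, d * (x : Fi24) ≠ (x : Fi24) * d) :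
    ¬ 5 ∣ Nat.card ↥(centralizer ({x} : Set Spor.Fi24')) := by
  have hfin : Finite Fi24 := R08.FiTwentyFour.finite_Fi24
  have hfin' : Finite Spor.Fi24' := inferInstanceAs (Finite ↥(commutator Fi24))
  intro h
  have : Fact (Nat.Prime 5) := ⟨by norm_num⟩
  obtain ⟨y, hy⟩ := exists_prime_orderOf_dvd_card' (G := ↥(centralizer ({x} : Set Spor.Fi24'))) 5 h
  have hyo : orderOf (((y : ↥(centralizer ({x} : Set Spor.Fi24'))) : Spor.Fi24') : Fi24) = 5 := by
    rw [Subgroup.orderOf_coe, Subgroup.orderOf_coe, hy]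
  have hyx : ((y : Spor.Fi24') : Fi24) * (x : Fi24) = (x : Fi24) * ((y : Spor.Fi24') : Fi24) :=
    congrArg Subtype.val (mem_centralizer_singleton_iff.1 y.2)
  have hxo : orderOf (x : Fi24) = 3 := by rw [Subgroup.orderOf_coe, hx]
  obtain ⟨g, hg⟩ := Cfsg.Agent.LThreeFi24.FiveConj.exists_conj_five hyo
  have ho : orderOf (g * (x : Fi24) * g⁻¹) = 3 := by rw [← hxo]; exact MulEquiv.orderOf_eq (MulAut.conj g) _
  obtain ⟨t, ht⟩ := conj_three (x := g * (x : Fi24) * g⁻¹) (mem_G0.2 (by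
    rw [← hg]
    calc g * (x : Fi24) * g⁻¹ * (g * ((y : Spor.Fi24') : Fi24) * g⁻¹)
        = g * ((x : Fi24) * ((y : Spor.Fi24') : Fi24)) * g⁻¹ := by group
      _ = g * (((y : Spor.Fi24') : Fi24) * (x : Fi24)) * g⁻¹ := by rw [hyx]
      _ = g * ((y : Spor.Fi24') : Fi24) * g⁻¹ * (g * (x : Fi24) * g⁻¹) := by group)) (by rw [← ho, pow_orderOf_eq_one]) (by
    intro h1
    rw [h1, orderOf_one] at ho
    omega)
  have key : ∀ w ∈ S9, t * (g * (x : Fi24) * g⁻¹) * t⁻¹ = w → False := by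
    intro w hw h1
    have h2 := S9_comm hw .l (Or.inl rfl)
    refine he ((t * g)⁻¹ * gen .l * (t * g)) ?_ ?_
    · have h3 := R08.FiTwentyFour.conj (gen_mem_L .l) (t * g)⁻¹
      rwa [inv_inv] at h3
    · have h4 : (x : Fi24) = (t * g)⁻¹ * w * (t * g) := by
        rw [← h1]
        group
      rw [h4]
      calc (t * g)⁻¹ * gen .l * (t * g) * ((t * g)⁻¹ * w * (t * g)) = (t * g)⁻¹ * (gen .l * w) * (t * g) := by group
        _ = (t * g)⁻¹ * (w * gen .l) * (t * g) := by rw [h2]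
        _ = (t * g)⁻¹ * w * (t * g) * ((t * g)⁻¹ * gen .l * (t * g)) := by group
  rcases ht with ht | ht | ht
  · exact key _ x1_mem ht
  · exact key _ x2_mem ht
  · exact key _ x3_mem ht

end Cfsg.Agent.LThreeFi24.EmptyTwo

end

-- merged: Cfsg.Agent.LThreeFi24.EmptyInv
section

/-!
# `Fi24'`: the elements of order 3 commuting with no transposition, `Inv (C(x))` (helper36)

`Dat w a b` : `w ∈ Zc = O₂,₃(C(z))` has order 3, `a`, `b` are noncommuting twins in the set of transpositions of `C(w)`,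
`z` does not commute with `a b`. From one such `w`: for every involution `t` commuting with `x` there is `w` of order 3
commuting with `x` and `t` and a 3-subgroup of `C(w) ∩ C(x)`, normal in it, not centralized by `t` (`inv_of`; Sylow in
`Zc`, Thompson's lemma for `⟨x⟩ × ⟨t⟩` acting on the 3-group generated by the products of twins).
-/

set_option autoImplicit false
set_option maxRecDepth 100000

open scoped commutatorElement

namespace Cfsg.Agent.LThreeFi24.EmptyInv

open Subgroup Cfsg Cfsg.Spor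
open Cfsg.Agent.R08.FiTwentyFour (L finite_Fi24)
open Cfsg.Agent.KFacts.FiTF Cfsg.Agent.KFacts.FiTF.Defs
open Cfsg.Agent.PreUniq.FiTF.Z
open Cfsg.Agent.LThreeFi24.Comp Cfsg.Agent.LThreeFi24.Twin
open Cfsg.Agent.OrdDiv Cfsg.Agent.CpAut

/-- an element of order 3 of `Zc` and two twins -/
structure Dat (w a b : Fi24) : Prop where
  hw : w ∈ Zc
  cube : w ^ 3 = 1
  ne : w ≠ 1
  ha : a ∈ L
  hb : b ∈ L
  aw : a * w = w * a
  bw : b * w = w * b
  nc : ¬ Commute a b
  zab : ¬ Commute z (a * b)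
  tw : ∀ f ∈ L, f * w = w * f → f ≠ a → a * f = f * a → b * f = f * b

theorem conj_comm {g a b : Fi24} (h : a * b = b * a) : (g * a * g⁻¹) * (g * b * g⁻¹) = (g * b * g⁻¹) * (g * a * g⁻¹) := by
  calc (g * a * g⁻¹) * (g * b * g⁻¹) = g * (a * b) * g⁻¹ := by group
    _ = g * (b * a) * g⁻¹ := by rw [h]
    _ = _ := by group

theorem of_conj_comm {g a b : Fi24} (h : (g * a * g⁻¹) * (g * b * g⁻¹) = (g * b * g⁻¹) * (g * a * g⁻¹)) :
    a * b = b * a := by
  have h1 := conj_comm (g := g⁻¹) h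
  have e : ∀ c : Fi24, g⁻¹ * (g * c * g⁻¹) * g⁻¹⁻¹ = c := fun c => by group
  rwa [e, e] at h1

theorem Dat.conj {w a b : Fi24} (h : Dat w a b) {c : Fi24} (hc : c * z = z * c) :
    Dat (c * w * c⁻¹) (c * a * c⁻¹) (c * b * c⁻¹) where
  hw := Zc_norm hc h.hw
  cube := by rw [conj_pow, h.cube]; group
  ne h1 := h.ne (by
    calc w = c⁻¹ * (c * w * c⁻¹) * c := by group
      _ = 1 := by rw [h1]; group)
  ha := Cfsg.Agent.R08.FiTwentyFour.conj h.ha c
  hb := Cfsg.Agent.R08.FiTwentyFour.conj h.hb c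
  aw := conj_comm h.aw
  bw := conj_comm h.bw
  nc h1 := h.nc (of_conj_comm h1)
  zab h1 := h.zab (of_conj_comm (g := c) (by
    have e1 : c * z * c⁻¹ = z := by rw [hc, mul_inv_cancel_right]
    have e2 : c * (a * b) * c⁻¹ = c * a * c⁻¹ * (c * b * c⁻¹) := by group
    rw [e1, e2]
    exact h1))
  tw f hf hfw hne hc' := by
    have e : ∀ d : Fi24, c * (c⁻¹ * d * c⁻¹⁻¹) * c⁻¹ = d := fun d => by group
    have hf' : c⁻¹ * f * c⁻¹⁻¹ ∈ L := Cfsg.Agent.R08.FiTwentyFour.conj hf c⁻¹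
    have h1 := h.tw (c⁻¹ * f * c⁻¹⁻¹) hf' (of_conj_comm (g := c) (by rw [e]; exact hfw))
      (fun h2 => hne (by rw [← h2, e])) (of_conj_comm (g := c) (by rw [e]; exact hc'))
    have h2 := conj_comm (g := c) h1
    rwa [e] at h2

theorem Dat.pow_two {w a b : Fi24} (h : Dat w a b) : Dat (w ^ 2) a b := by
  have hww : (w ^ 2) ^ 2 = w := by
    rw [← pow_mul, show 2 * 2 = 3 + 1 from rfl, pow_succ, h.cube, one_mul]
  have key : ∀ f : Fi24, f * w ^ 2 = w ^ 2 * f → f * w = w * f := by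
    intro f hf
    have h1 : Commute f (w ^ 2) := hf
    have h2 := h1.pow_right 2
    rw [hww] at h2
    exact h2
  exact
    { hw := Zc.pow_mem h.hw 2
      cube := by rw [← pow_mul, mul_comm, pow_mul, h.cube, one_pow]
      ne := fun h1 => h.ne (by rw [← hww, h1, one_pow])
      ha := h.ha
      hb := h.hb
      aw := ((show Commute a w from h.aw).pow_right 2).eq
      bw := ((show Commute b w from h.bw).pow_right 2).eq
      nc := h.nc
      zab := h.zab
      tw := fun f hf hfw => h.tw f hf (key f hfw) }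

instance : Fact (Nat.Prime 3) := ⟨Nat.prime_three⟩

section

variable (T : OrderTable.{0}) (hA : AllKnown.{0})

include T hA

/-- the subgroups of order 3 of `Zc` are conjugate in `Zc` -/
theorem exists_dat {w a b w' : Fi24} (h : Dat w a b) (hw : w' ∈ Zc) (h3 : w' ^ 3 = 1) (h1 : w' ≠ 1) :
    ∃ a' b', Dat w' a' b' := by
  have hfin : Finite Fi24 := finite_Fi24
  have hcard : Nat.card Zc = 24576 := card_Zc_eq T hA
  have hf : (24576 : ℕ).factorization 3 = 1 := by
    rw [show (24576 : ℕ) = 3 * 2 ^ 13 by norm_num, Nat.factorization_mul (by norm_num) (by norm_num),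
      Nat.Prime.factorization Nat.prime_three, Nat.Prime.factorization_pow Nat.prime_two]
    simp
  have key : ∀ (v : ↥Zc), v ^ 3 = 1 → v ≠ 1 → Nat.card ↥(zpowers v) = 3 ^ (Nat.card ↥Zc).factorization 3 := by
    intro v hv hv1
    rw [Nat.card_zpowers, hcard, hf, pow_one]
    exact orderOf_eq_prime hv hv1
  let v : ↥Zc := ⟨w, h.hw⟩
  let v' : ↥Zc := ⟨w', hw⟩
  let P : Sylow 3 ↥Zc := Sylow.ofCard (zpowers v) (key v (Subtype.ext h.cube) (fun h2 => h.ne (congrArg Subtype.val h2)))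
  let P' : Sylow 3 ↥Zc := Sylow.ofCard (zpowers v') (key v' (Subtype.ext h3) (fun h2 => h1 (congrArg Subtype.val h2)))
  obtain ⟨c, hc⟩ := MulAction.exists_smul_eq ↥Zc P P'
  have h4 : v' ∈ ((c • P : Sylow 3 ↥Zc) : Subgroup ↥Zc) := by
    rw [hc]
    exact mem_zpowers v'
  rw [Sylow.coe_subgroup_smul] at h4
  obtain ⟨u, hu, hu'⟩ := h4
  have hu1 : u ∈ zpowers v := hu
  have hu2 : c * u * c⁻¹ = v' := hu'
  have hcz : (c : Fi24) * z = z * c := E_z (Zc_le c.2)
  have hv3 : v ^ 3 = 1 := Subtype.ext h.cube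
  have hcases : u = 1 ∨ u = v ∨ u = v ^ 2 := by
    obtain ⟨k, hk⟩ := (mem_zpowers_iff).1 hu1
    have h5 : u = v ^ (k % 3) := by
      rw [← hk]
      conv_lhs => rw [← Int.emod_add_mul_ediv k 3, zpow_add, zpow_mul, zpow_ofNat, hv3, one_zpow, mul_one]
    have h6 : k % 3 = 0 ∨ k % 3 = 1 ∨ k % 3 = 2 := by omega
    rcases h6 with h6 | h6 | h6 <;> rw [h6] at h5
    · left; rw [h5, zpow_zero]
    · right; left; rw [h5, zpow_one]
    · right; right; rw [h5]; rfl
  have hval : (c : Fi24) * (u : Fi24) * (c : Fi24)⁻¹ = w' := congrArg Subtype.val hu2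
  rcases hcases with h5 | h5 | h5
  · exfalso
    apply h1
    rw [← hval, h5]
    show (c : Fi24) * 1 * (c : Fi24)⁻¹ = 1
    group
  · refine ⟨(c : Fi24) * a * (c : Fi24)⁻¹, (c : Fi24) * b * (c : Fi24)⁻¹, ?_⟩
    rw [← hval, h5]
    exact h.conj hcz
  · refine ⟨(c : Fi24) * a * (c : Fi24)⁻¹, (c : Fi24) * b * (c : Fi24)⁻¹, ?_⟩
    rw [← hval, h5]
    exact h.pow_two.conj hcz

end

/-- the transpositions of the subgroup `X` -/
def DX (X : Subgroup Fi24) : Set ↥X := {y | (y : Fi24) ∈ L}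

theorem tset (X : Subgroup Fi24) : TSet (DX X) := by
  refine ⟨?_, ?_, ?_⟩
  · intro a ha
    exact Subtype.ext (Cfsg.Agent.R08.FiTwentyFour.sq ha)
  · intro a ha g
    exact Cfsg.Agent.R08.FiTwentyFour.conj ha (g : Fi24)
  · intro a ha b hb
    rcases Cfsg.Agent.R08.FiTwentyFour.three ha hb with h | h
    · exact Or.inl (Subtype.ext h)
    · exact Or.inr (Subtype.ext h)

/-- the 3-group generated by the products of twins -/
theorem exists_J {w a b : Fi24} (h : Dat w a b) : ∃ J : Subgroup Fi24, IsPGroup 3 ↥J ∧ J ≤ commutator Fi24 ∧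
    (∀ j ∈ J, j * w = w * j) ∧ (∀ g, g * w = w * g → ∀ j ∈ J, g * j * g⁻¹ ∈ J) ∧ a * b ∈ J := by
  have hfin : Finite Fi24 := finite_Fi24
  let X : Subgroup Fi24 := centralizer ({w} : Set Fi24)
  have hD := tset X
  let a' : ↥X := ⟨a, mem_centralizer_singleton_iff.2 h.aw⟩
  let b' : ↥X := ⟨b, mem_centralizer_singleton_iff.2 h.bw⟩
  have htw : Tw (DX X) a' b' := by
    refine LThreeFi24N.tw_of_subset hD (d := a') (e := b') h.ha h.hb (fun h1 => h.nc (congrArg Subtype.val h1)) ?_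
    rintro f ⟨hf, hfa, hc⟩
    have hc' : Commute b' f := Subtype.ext (h.tw f hf (mem_centralizer_singleton_iff.1 f.2)
      (fun h1 => hfa (Subtype.ext h1)) (congrArg Subtype.val hc))
    refine ⟨hf, ?_, hc'⟩
    rintro rfl
    exact h.nc (congrArg Subtype.val hc)
  have hp := isPGroup_twins hD
  have hn := normal_twins hD
  refine ⟨(Subgroup.closure (Pr (DX X))).map X.subtype, hp.map _, ?_, ?_, ?_, ?_⟩
  · rw [Subgroup.map_le_iff_le_comap, closure_le]
    rintro _ ⟨d, hd, e, he, -, -, rfl⟩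
    exact Cfsg.Agent.R08.FiTwentyFour.even hd he
  · rintro _ ⟨j, -, rfl⟩
    exact mem_centralizer_singleton_iff.1 j.2
  · rintro g hg _ ⟨j, hj, rfl⟩
    exact ⟨(⟨g, mem_centralizer_singleton_iff.2 hg⟩ * j * ⟨g, mem_centralizer_singleton_iff.2 hg⟩⁻¹ :), hn.conj_mem j hj _, rfl⟩
  · refine ⟨a' * b', Subgroup.subset_closure ⟨a', h.ha, b', h.hb, htw, ?_, rfl⟩, rfl⟩
    exact Or.inr fun h1 => h.nc (congrArg Subtype.val h1)

/-- Thompson's lemma -/
theorem exists_j {w a b x : Fi24} (h : Dat w a b) {J : Subgroup Fi24} (hJ : IsPGroup 3 ↥J)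
    (hn : ∀ g, g * w = w * g → ∀ j ∈ J, g * j * g⁻¹ ∈ J) (hab : a * b ∈ J) (hx : x ^ 3 = 1) (hxw : x * w = w * x)
    (hxz : x * z = z * x) : ∃ j ∈ J, j * x = x * j ∧ j * z ≠ z * j := by
  have hfin : Finite Fi24 := finite_Fi24
  by_contra hcon
  push Not at hcon
  have hzw : (z : Fi24) * w = w * z := (E_z (Zc_le h.hw)).symm
  have hnorm : ∀ g : Fi24, g * w = w * g → g ∈ normalizer (J : Set Fi24) := by
    intro g hg
    have hg' : g⁻¹ * w = w * g⁻¹ := ((show Commute g w from hg).inv_left).eq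
    rw [mem_normalizer_iff]
    intro k
    refine ⟨fun hk => hn g hg k hk, fun hk => ?_⟩
    have h1 := hn g⁻¹ hg' _ hk
    have e : g⁻¹ * (g * k * g⁻¹) * g⁻¹⁻¹ = k := by group
    rwa [e] at h1
  have h1 := Cfsg.Agent.Lib.ThompsonPQ.thompson_p_times_q 3 (zpowers x) (zpowers (z : Fi24)) J ?_ ?_ hJ ?_ ?_ ?_ ?_
  · apply h.zab
    have h2 := h1 (mem_zpowers z)
    exact ((mem_centralizer_iff.1 h2) (a * b) hab).symm
  · intro y
    obtain ⟨k, hk⟩ := mem_zpowers_iff.1 y.2
    refine ⟨1, Subtype.ext ?_⟩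
    rw [pow_one]
    show (y : Fi24) ^ 3 = 1
    rw [← hk, ← zpow_natCast, ← zpow_mul, mul_comm, zpow_mul, zpow_natCast, hx, one_zpow]
  · rw [Nat.card_zpowers, orderOf_eq_prime (by rw [pow_two, zz]) frame.z1]
    norm_num
  · rw [zpowers_le, mem_centralizer_iff]
    intro y hy
    obtain ⟨k, rfl⟩ := mem_zpowers_iff.1 hy
    exact ((show Commute x z from hxz).zpow_right k).eq.symm
  · rw [zpowers_le]
    exact hnorm x hxw
  · rw [zpowers_le]
    exact hnorm z hzw
  · rintro j ⟨hj, hjx⟩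
    have h2 : j * x = x * j := ((mem_centralizer_iff.1 hjx) x (mem_zpowers x)).symm
    have h3 := hcon j hj h2
    rw [mem_centralizer_iff]
    intro y hy
    obtain ⟨k, rfl⟩ := mem_zpowers_iff.1 hy
    exact ((show Commute (z : Fi24) j from h3.symm).zpow_left k).eq

section

variable (T : OrderTable.{0}) (hA : AllKnown.{0})

include T hA

/-- an element of order 3 of `Zc` commuting with `x` -/
theorem exists_w {x : Fi24} (hx : x ^ 3 = 1) (hxK : x ∈ commutator Fi24) (hxz : x * z = z * x) :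
    ∃ w ∈ Zc, w ^ 3 = 1 ∧ w ≠ 1 ∧ w * x = x * w := by
  have hfin : Finite Fi24 := finite_Fi24
  obtain ⟨s, hs, hsR⟩ := exists_s T hA
  have hxE := mem_E_of_cube T hA hx hxK hxz
  have h1 : ⁅s, x⁆ ∈ R := hs.2 x hxE
  obtain ⟨r, hr, hc⟩ := exists_comm hx hxz (E_z (Zc_le hs)) h1
  have hv : s * r ∈ Zc := Zc.mul_mem hs (R_le_Zc hr)
  have hvR : s * r ∉ R := fun h => hsR (by
    have := R.mul_mem h (R.inv_mem hr)
    rwa [mul_inv_cancel_right] at this)
  generalize s * r = v at hc hv hvR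
  have hv3 := cube_mem T hA hv
  have hord : v ^ 24576 = 1 := by
    have h2 : (⟨v, hv⟩ : ↥Zc) ^ Nat.card ↥Zc = 1 := pow_card_eq_one'
    rw [card_Zc_eq T hA] at h2
    exact congrArg Subtype.val h2
  refine ⟨v ^ 8192, Zc.pow_mem hv _, ?_, ?_, ?_⟩
  · rw [← pow_mul]; exact hord
  · intro h2
    apply hvR
    apply mem_R_of_sq T hA hv
    have h3 : v * v = v ^ 8192 * (v ^ 3)⁻¹ ^ 2730 := by
      have h4 : v ^ 8192 = v * v * (v ^ 3) ^ 2730 := by
        rw [← pow_mul, ← pow_two, ← pow_add]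
      rw [h4, inv_pow, mul_inv_cancel_right]
    rw [h3, h2, one_mul]
    exact R.pow_mem (R.inv_mem hv3) _
  · exact ((show Commute v x from hc).pow_left 8192).eq

/-- **`Inv (C(x))` for `x` commuting with no transposition** -/
theorem inv_of (hdat : ∃ w a b, Dat w a b) {x : Spor.Fi24'} (hx : orderOf x = 3)
    (he : ∀ d ∈ L, d * (x : Fi24) ≠ (x : Fi24) * d) : EmptyAbs.Inv ↥(centralizer ({x} : Set Spor.Fi24')) := by
  have hfin : Finite Fi24 := finite_Fi24
  intro t ht
  have hto : orderOf (t : Spor.Fi24') = 2 := by rw [Subgroup.orderOf_coe, ht]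
  have htx : (t : Spor.Fi24') * x = x * (t : Spor.Fi24') := mem_centralizer_singleton_iff.1 t.2
  obtain ⟨g, hg⟩ := EmptyTwo.invol hx he hto htx
  have hx3 : x ^ 3 = 1 := by rw [← hx, pow_orderOf_eq_one]
  -- the homomorphism `h ↦ g h g⁻¹`
  let φ : ↥(centralizer ({x} : Set Spor.Fi24')) →* Fi24 :=
    (MulAut.conj (g : Fi24)).toMonoidHom.comp ((commutator Fi24).subtype.comp (Subgroup.subtype _))
  have hφ : Function.Injective φ := (MulAut.conj (g : Fi24)).injective.comp
    ((commutator Fi24).subtype_injective.comp (Subgroup.subtype_injective _))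
  have hφe : ∀ h, φ h = (g : Fi24) * ((h : Spor.Fi24') : Fi24) * (g : Fi24)⁻¹ := fun _ => rfl
  set x' : Fi24 := (g : Fi24) * (x : Fi24) * (g : Fi24)⁻¹ with hx'
  have hx'3 : x' ^ 3 = 1 := by
    rw [hx', conj_pow]
    have : (x : Fi24) ^ 3 = 1 := congrArg Subtype.val hx3
    rw [this]; group
  have hx'K : x' ∈ commutator Fi24 := (g * x * g⁻¹).2
  have hx'z : x' * z = z * x' := by
    rw [← hg]
    exact conj_comm (congrArg Subtype.val htx.symm)
  obtain ⟨w, hw, hw3, hw1, hwx⟩ := exists_w T hA hx'3 hx'K hx'z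
  obtain ⟨w0, a0, b0, h0⟩ := hdat
  obtain ⟨a, b, hab⟩ := exists_dat T hA h0 hw hw3 hw1
  obtain ⟨J, hJ, hJK, hJw, hJn, habJ⟩ := exists_J hab
  obtain ⟨j, hj, hjx, hjz⟩ := exists_j hab hJ hJn habJ hx'3 hwx.symm hx'z
  -- lifting the elements commuting with `x'`
  have lift : ∀ y : Fi24, y ∈ commutator Fi24 → y * x' = x' * y →
      ∃ h : ↥(centralizer ({x} : Set Spor.Fi24')), φ h = y := by
    intro y hy hyx
    refine ⟨⟨g⁻¹ * ⟨y, hy⟩ * g, ?_⟩, ?_⟩
    · rw [mem_centralizer_singleton_iff]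
      apply Subtype.ext
      show (g : Fi24)⁻¹ * y * g * x = x * ((g : Fi24)⁻¹ * y * g)
      apply of_conj_comm (g := (g : Fi24))
      have e1 : (g : Fi24) * ((g : Fi24)⁻¹ * y * g) * (g : Fi24)⁻¹ = y := by group
      rw [e1]
      exact hyx
    · rw [hφe]
      show (g : Fi24) * ((g : Fi24)⁻¹ * y * g) * (g : Fi24)⁻¹ = y
      group
  have hwK : w ∈ commutator Fi24 := frame.EK (Zc_le hw)
  obtain ⟨s, hs⟩ := lift w hwK hwx
  obtain ⟨j', hj'⟩ := lift j (hJK hj) hjx
  have hφt : φ t = z := by rw [hφe]; exact hg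
  refine ⟨s, ?_, ?_, J.comap φ, hJ.comap_of_injective φ hφ, ?_, ?_, j', ?_, ?_⟩
  · rw [← orderOf_injective φ hφ, hs]
    exact orderOf_eq_prime hw3 hw1
  · apply hφ
    rw [map_mul, map_mul, hs, hφt]
    exact E_z (Zc_le hw)
  · intro p hp
    apply hφ
    rw [map_mul, map_mul, hs]
    exact hJw _ hp
  · intro h hh p hp
    show φ (h * p * h⁻¹) ∈ J
    rw [map_mul, map_mul, map_inv]
    refine hJn (φ h) ?_ _ hp
    rw [← hs, ← map_mul, ← map_mul, hh]
  · show φ j' ∈ J
    rw [hj']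
    exact hj
  · intro h
    apply hjz
    rw [← hj', ← hφt, ← map_mul, ← map_mul, h]

end

end Cfsg.Agent.LThreeFi24.EmptyInv

end
end

-- part: LThreeFi24/EmptyDat
section
set_option linter.all false
open scoped Cfsg.Agent.FastGrp

/-!
# `Fi24'`: an element of order 3 of `Zc = O₂,₃(C(z))` conjugate to `x2 = j g e d` (helper36)

`w1 = g x2 g⁻¹` (`g` of length 35) fixes the tetrads of seven generating transpositions of `C(z)`; the twins of helper48 in
`C(x2)` are carried to `C(w1)`; `exists_dat : ∃ w a b, EmptyInv.Dat w a b`.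
-/

set_option autoImplicit false
set_option maxRecDepth 100000

open scoped commutatorElement

namespace Cfsg.Agent.LThreeFi24.EmptyDat

open Subgroup Cfsg
open Cfsg.Agent.Lib.PermNet Cfsg.Agent.Lib.PermNetPt Cfsg.Agent.Fischer.Fi24RepDef Cfsg.Agent.Fischer.Fi24Rep
open Cfsg.Agent.Fischer.Fi24Spider (word_append word_cons word_nil)
open Cfsg.Agent.R08.FiTwentyFour (L finite_Fi24)
open Cfsg.Agent.R08.TetTwo (IsTet)
open Cfsg.Agent.KFacts.FiTF Cfsg.Agent.KFacts.FiTF.Defs Cfsg.Agent.KFacts.FiTF.Pts Cfsg.Agent.KFacts.FiTF.FixMask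
open Cfsg.Agent.PreUniq.FiTF.Z
open Cfsg.Agent.LThreeFi24.SNine (x2 p2 x2_mem R_x2 p_cube x_cube)
open Cfsg.Agent.LThreeFi24N (xw2 u2 sieve2 fix2 pt2 fx2 mv2 twin_of not_comm_of x2_eq word_one x2l)
open Cfsg.Agent.OrdDiv Cfsg.Agent.CpAut
open Cfsg.Spor (Fi24)
open Cfsg.Spor.Fi24 (Gen)

/-- the conjugating word -/
def gw : List Gen := [.d, .f, .e, .d, .c, .b, .a, .g, .f, .e, .d, .c, .b, .j, .g, .f, .e, .d, .c, .h, .d, .i, .h, .k, .l, .a,
  .k, .b, .a, .c, .b, .d, .c, .e, .f]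

/-- the word of `w1` -/
def ww : List Gen := gw ++ (xw2 ++ gw.reverse)

theorem chk0 : chkPt (nw ww false) 0 3 = true := by decide +kernel
theorem chk1 : chkPt (nw ww false) 1 1 = true := by decide +kernel
theorem chk2 : chkPt (nw ww false) 2 0 = true := by decide +kernel
theorem chk3 : chkPt (nw ww false) 3 2 = true := by decide +kernel
theorem chk4 : chkPt (nw ww false) 305392 305392 = true := by decide +kernel
theorem chk5 : chkPt (nw ww false) 9 9 = true := by decide +kernel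
theorem chk6 : chkPt (nw ww false) 136 136 = true := by decide +kernel
theorem chk7 : chkPt (nw ww false) 176 176 = true := by decide +kernel
theorem chk8 : chkPt (nw ww false) 10 13 = true := by decide +kernel
theorem chkg0 : chkPt (nw gw false) 0 8 = true := by decide +kernel
theorem chkg1 : chkPt (nw gw false) 306897 303843 = true := by decide +kernel
theorem chkz0 : chkPt (nw [.l, .a, .c, .e] false) 8 8 = true := by decide +kernel
theorem chkz1 : chkPt (nw [.l, .a, .c, .e] false) 303843 303851 = true := by decide +kernel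

/-- the element of order 3 -/
noncomputable def w1 : Fi24 := word gw * word xw2 * (word gw)⁻¹

theorem w1_word : w1 = word ww := by
  unfold w1 ww
  rw [word_append, word_append, word_reverse, mul_assoc]

theorem rho_w1 {p q : ℕ} (h : chkPt (nw ww false) p q = true) : rho w1 p = q := by
  rw [w1_word]
  exact rho_of_chkPt h

/-- the image of a listed transposition -/
theorem w1_D {t i k : ℕ} (ht : t < 6) (hi : i < 4) (hk : k < 4) (h : chkPt (nw ww false) (P t i) (P t k) = true) :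
    w1 * D t i * w1⁻¹ = D t k := (Tet.isPt ht hi).conj_eq (Tet.isPt ht hk) (rho_w1 h)

theorem w1_z : w1 * z = z * w1 := by
  have h0 : w1 * D 0 0 * w1⁻¹ = D 0 3 := w1_D (by norm_num) (by norm_num) (by norm_num) chk0
  have h1 : w1 * D 0 1 * w1⁻¹ = D 0 1 := w1_D (by norm_num) (by norm_num) (by norm_num) chk1
  have h2 : w1 * D 0 2 * w1⁻¹ = D 0 0 := w1_D (by norm_num) (by norm_num) (by norm_num) chk2
  have h3 : w1 * D 0 3 * w1⁻¹ = D 0 2 := w1_D (by norm_num) (by norm_num) (by norm_num) chk3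
  have c : ∀ {i k : ℕ}, i < 4 → k < 4 → D 0 i * D 0 k = D 0 k * D 0 i := fun hi hk => Tet.D_comm (by norm_num) hi hk
  rw [← mul_inv_eq_iff_eq_mul]
  have hz : z = D 0 0 * D 0 1 * D 0 2 * D 0 3 := Tet.prod0.symm
  calc w1 * z * w1⁻¹ = (w1 * D 0 0 * w1⁻¹) * (w1 * D 0 1 * w1⁻¹) * (w1 * D 0 2 * w1⁻¹) * (w1 * D 0 3 * w1⁻¹) := by
        rw [hz]; group
    _ = D 0 3 * (D 0 1 * D 0 0) * D 0 2 := by rw [h0, h1, h2, h3]; group
    _ = D 0 3 * ((D 0 0 * D 0 1) * D 0 2) := by rw [c (by norm_num) (by norm_num) (i := 1) (k := 0)]; group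
    _ = (D 0 3 * D 0 0) * D 0 1 * D 0 2 := by group
    _ = D 0 0 * (D 0 3 * D 0 1) * D 0 2 := by rw [c (by norm_num) (by norm_num) (i := 3) (k := 0)]; group
    _ = D 0 0 * D 0 1 * (D 0 3 * D 0 2) := by rw [c (by norm_num) (by norm_num) (i := 3) (k := 1)]; group
    _ = z := by rw [c (by norm_num) (by norm_num) (i := 3) (k := 2), hz]; group

theorem x2_cube : (word xw2) ^ 3 = 1 := by
  rw [← x2_eq]
  exact x_cube x2 p2 x2_mem R_x2 p_cube.2.1

theorem w1_cube : w1 ^ 3 = 1 := by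
  unfold w1
  rw [conj_pow, x2_cube]
  group

theorem w1_ne : w1 ≠ 1 := by
  intro h
  have h1 := rho_w1 chk0
  rw [h, map_one] at h1
  exact absurd h1 (by decide)

theorem w1_K : w1 ∈ commutator Fi24 := by
  have hn : (commutator Fi24).Normal := inferInstance
  refine hn.conj_mem _ ?_ _
  unfold xw2
  rw [word_cons, word_cons, word_cons, word_cons, word_nil, mul_one, ← mul_assoc]
  exact mul_mem (Cfsg.Agent.R08.FiTwentyFour.even (Cfsg.Agent.R08.FiTwentyFour.gen_mem_L _)
    (Cfsg.Agent.R08.FiTwentyFour.gen_mem_L _)) (Cfsg.Agent.R08.FiTwentyFour.even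
      (Cfsg.Agent.R08.FiTwentyFour.gen_mem_L _) (Cfsg.Agent.R08.FiTwentyFour.gen_mem_L _))

/-- the commutators with the seven transpositions -/
theorem comm_fix {t : ℕ} {i : ℕ} (ht : t < 6) (hi : i < 4) (h : chkPt (nw ww false) (P t i) (P t i) = true) :
    ⁅w1, D t i⁆ ∈ R := by
  rw [commutatorElement_def, w1_D ht hi hi h, mul_inv_cancel]
  exact R.one_mem

theorem seven : ∀ d ∈ ({D 0 0, D 0 1, D 1 0, D 2 0, D 3 0, D 4 0, D 5 0} : Set Fi24), d * z = z * d ∧ ⁅w1, d⁆ ∈ R := by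
  have zD : ∀ {t i : ℕ}, t < 6 → i < 4 → D t i * z = z * D t i := fun ht hi => (Tet.z_D ht hi).symm
  have Dinv : ∀ {t i : ℕ}, t < 6 → i < 4 → (D t i)⁻¹ = D t i := fun ht hi => inv_eq_of_mul_eq_one_left (Tet.D_sq ht hi)
  rintro d (rfl | rfl | rfl | rfl | rfl | rfl | rfl)
  · refine ⟨zD (by norm_num) (by norm_num), ?_⟩
    rw [commutatorElement_def, w1_D (t := 0) (i := 0) (k := 3) (by norm_num) (by norm_num) (by norm_num) chk0,
      Dinv (by norm_num) (by norm_num), Tet.D_comm (t := 0) (i := 3) (k := 0) (by norm_num) (by norm_num) (by norm_num)]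
    exact pair_mem (Tet.isTet (t := 0) (by norm_num)).sw34.sw23
  · exact ⟨zD (by norm_num) (by norm_num), comm_fix (by norm_num) (by norm_num) chk1⟩
  · exact ⟨zD (by norm_num) (by norm_num), comm_fix (by norm_num) (by norm_num) chk4⟩
  · exact ⟨zD (by norm_num) (by norm_num), comm_fix (by norm_num) (by norm_num) chk5⟩
  · exact ⟨zD (by norm_num) (by norm_num), comm_fix (by norm_num) (by norm_num) chk6⟩
  · exact ⟨zD (by norm_num) (by norm_num), comm_fix (by norm_num) (by norm_num) chk7⟩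
  · refine ⟨zD (by norm_num) (by norm_num), ?_⟩
    rw [commutatorElement_def, w1_D (t := 5) (i := 0) (k := 2) (by norm_num) (by norm_num) (by norm_num) chk8,
      Dinv (by norm_num) (by norm_num), Tet.D_comm (t := 5) (i := 2) (k := 0) (by norm_num) (by norm_num) (by norm_num)]
    exact pair_mem (Tet.isTet (t := 5) (by norm_num)).sw23

theorem all {g : Fi24} (hg : g ∈ closure ({D 0 0, D 0 1, D 1 0, D 2 0, D 3 0, D 4 0, D 5 0} : Set Fi24)) :
    g * z = z * g ∧ ⁅w1, g⁆ ∈ R := by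
  induction hg using Subgroup.closure_induction with
  | mem d hd => exact seven d hd
  | one =>
    refine ⟨by rw [one_mul, mul_one], ?_⟩
    rw [commutatorElement_one_right]
    exact R.one_mem
  | mul a b _ _ ha hb =>
    refine ⟨by rw [mul_assoc, hb.1, ← mul_assoc, ha.1, mul_assoc], ?_⟩
    have e : ⁅w1, a * b⁆ = ⁅w1, a⁆ * (a * ⁅w1, b⁆ * a⁻¹) := by
      simp only [commutatorElement_def]; group
    rw [e]
    exact R.mul_mem ha.2 (R_norm ha.1 hb.2)
  | inv a _ ha =>
    refine ⟨z_comm_inv ha.1, ?_⟩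
    have e : ⁅w1, a⁻¹⁆ = a⁻¹ * (⁅w1, a⁆)⁻¹ * a⁻¹⁻¹ := by
      simp only [commutatorElement_def]; group
    rw [e]
    exact R_norm (z_comm_inv ha.1) (R.inv_mem ha.2)

theorem E_le : E ≤ closure ({D 0 0, D 0 1, D 1 0, D 2 0, D 3 0, D 4 0, D 5 0} : Set Fi24) := by
  have key : ∀ d ∈ Dz, d ∈ closure ({D 0 0, D 0 1, D 1 0, D 2 0, D 3 0, D 4 0, D 5 0} : Set Fi24) := by
    intro d hd
    obtain ⟨w, hw, rfl⟩ := FixZ.tran d hd
    have hl : gen .l ∈ closure ({D 0 0, D 0 1, D 1 0, D 2 0, D 3 0, D 4 0, D 5 0} : Set Fi24) := by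
      rw [← RQ.D00]
      exact Subgroup.subset_closure (Or.inl rfl)
    exact mul_mem (mul_mem hw hl) (inv_mem hw)
  unfold E
  rw [closure_le]
  rintro _ ⟨e, he, f, hf, rfl⟩
  exact mul_mem (key e he) (key f hf)

/-- the two twins -/
noncomputable def a1 : Fi24 := word gw * gen .l * (word gw)⁻¹
noncomputable def b1 : Fi24 := word gw * tr u2 .l * (word gw)⁻¹

theorem isPt_e : IsPt (tr u2 .l) 306897 := isPt_tr pt2

theorem isPt_a1 : IsPt a1 8 := (isPt_gen .l).conj' (rho_of_chkPt chkg0)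

theorem isPt_b1 : IsPt b1 303843 := isPt_e.conj' (rho_of_chkPt chkg1)

theorem zab : ¬ Commute z (a1 * b1) := by
  intro h
  have h1 : Commute z a1 := (isPt_a1.comm_iff z).2 (rho_z chkz0)
  have h2 : Commute z b1 := by
    have h3 := (h1.inv_right).mul_right h
    rwa [inv_mul_cancel_left] at h3
  have h4 := (isPt_b1.comm_iff z).1 h2
  rw [rho_z chkz1] at h4
  exact absurd h4 (by norm_num)

theorem b_comm : tr u2 .l * word xw2 = word xw2 * tr u2 .l := by
  have h := fx2
  rw [Bool.and_eq_true] at h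
  exact ((isPt_e.comm_iff _).2 (rho_of_chkPt h.2)).symm

/-- **the data** -/
theorem exists_dat (T : OrderTable.{0}) (hA : AllKnown.{0}) : ∃ w a b, EmptyInv.Dat w a b := by
  have e : ∀ c d : Fi24, word gw * c * (word gw)⁻¹ = word gw * d * (word gw)⁻¹ → c = d := fun c d h =>
    mul_left_cancel (mul_right_cancel h)
  refine ⟨w1, a1, b1, ?_⟩
  exact
    { hw := ⟨mem_E_of_cube T hA w1_cube w1_K w1_z, fun y hy => (all (E_le hy)).2⟩
      cube := w1_cube
      ne := w1_ne
      ha := isPt_a1.mem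
      hb := isPt_b1.mem
      aw := EmptyInv.conj_comm x2l
      bw := EmptyInv.conj_comm b_comm
      nc := fun h => not_comm_of isPt_e mv2 (EmptyInv.of_conj_comm h)
      zab := zab
      tw := by
        intro f hf hfw hne hc
        have c : ∀ d : Fi24, word gw * ((word gw)⁻¹ * d * (word gw)⁻¹⁻¹) * (word gw)⁻¹ = d := fun d => by group
        have hf' : (word gw)⁻¹ * f * (word gw)⁻¹⁻¹ ∈ L := Cfsg.Agent.R08.FiTwentyFour.conj hf _
        have h1 := twin_of sieve2 fix2 ((word gw)⁻¹ * f * (word gw)⁻¹⁻¹) hf'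
          (fun h2 => hne (by rw [← c f, h2]; rfl))
          (EmptyInv.of_conj_comm (g := word gw) (by rw [c]; exact hfw))
          (EmptyInv.of_conj_comm (g := word gw) (by rw [c]; exact hc.symm))
        have h2 := EmptyInv.conj_comm (g := word gw) h1
        rw [c] at h2
        exact h2.symm }

end Cfsg.Agent.LThreeFi24.EmptyDat
end
end
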