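import Cfsg.Agent.H841.Phi_m3
import Cfsg.Agent.LThreeFi24.Twin
import Cfsg.Agent.LThreeFi24.Red24
import Cfsg.Agent.KFacts.FiTF.FixZ_m3
import Cfsg.Agent.FastGrp
import Cfsg.Agent.Prune
set_option linter.all false
prune_inst 0x7f00000000000000000000000000000000000000000000000000000000000000000000000000000000000000000000000000000000000000000000000000000000000000000000000000000000000000003fffffffffffffffffffffffffffbeffbdffffffff
open scoped Cfsg.Agent.FastGrp

/-!
# `C(x2)` and `C(x3)` have no components (helper47, row Fi24' of S1806)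
-/

set_option autoImplicit false
set_option maxRecDepth 100000
set_option Elab.async false

namespace Cfsg.Agent.LThreeFi24.CaseB

open Cfsg Cfsg.Agent.Lib.PermNet Cfsg.Agent.Lib.PermNetPt Cfsg.Agent.Fischer.Fi24RepDef Cfsg.Agent.Fischer.Fi24Rep
open Cfsg.Agent.Fischer.Fi24RepOrb (UG orbG)
open Cfsg.Agent.Fischer.Fi24Spider (word_append word_cons word_nil gword gen_conj)
open Cfsg.Agent.KFacts.FiTF.Pts Cfsg.Agent.KFacts.FiTF.FixMask
open Cfsg.Agent.KFacts.FiTF.Defs (tr)
open Cfsg.Agent.LThreeFi24.SNine Cfsg.Agent.LThreeFi24.SNineK Cfsg.Agent.LThreeFi24.Comp Cfsg.Agent.LThreeFi24.TwinK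
open Cfsg.Agent.LThreeFi24.Base24 Cfsg.Agent.LThreeFi24.Red24 Cfsg.Agent.LThreeFi24.Twin
open Cfsg.Agent.LThree
open Cfsg.Spor (Fi24 Fi23)
open Cfsg.Spor.Fi24 (Gen)
open Subgroup
open Cfsg.Agent.R08.FiTwentyFour (L)

/-! ### Elements of prime order `≥ 5` -/

/-- an element of prime order `≥ 5` all of whose conjugates of `d` lie in a set of at most four elements -/
theorem comm_of_few {G : Type*} [Group G] {y d : G} {r : ℕ} (hr : r.Prime) (h5 : 5 ≤ r) (hy : orderOf y = r)
    {M : Set G} (hM : M.Finite) (hc : M.ncard ≤ 4) (h : ∀ n : ℕ, y ^ n * d * (y ^ n)⁻¹ ∈ M) : y * d = d * y := by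
  -- two of the five conjugates coincide
  have h1 : ∃ i j : ℕ, i < j ∧ j < 5 ∧ y ^ i * d * (y ^ i)⁻¹ = y ^ j * d * (y ^ j)⁻¹ := by
    by_contra hcon
    push Not at hcon
    have hinj : Set.InjOn (fun n : ℕ => y ^ n * d * (y ^ n)⁻¹) (Set.Iio 5) := by
      intro i hi j hj hij
      rcases lt_trichotomy i j with h2 | h2 | h2
      · exact absurd hij (hcon i j h2 hj)
      · exact h2
      · exact absurd hij.symm (hcon j i h2 hi)
    have h2 : (Set.Iio 5 : Set ℕ).ncard ≤ M.ncard := by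
      rw [← hinj.ncard_image]
      apply Set.ncard_le_ncard _ hM
      rintro _ ⟨n, -, rfl⟩
      exact h n
    have h3 : (Set.Iio 5 : Set ℕ).ncard = 5 := by
      rw [Set.ncard_eq_toFinset_card' (Set.Iio 5 : Set ℕ)]
      simp
    omega
  obtain ⟨i, j, hij, hj, h2⟩ := h1
  have h3 : Commute (y ^ (j - i)) d := by
    have h4 : y ^ j = y ^ i * y ^ (j - i) := by rw [← pow_add]; congr 1; omega
    rw [h4] at h2
    have h5 : d = y ^ (j - i) * d * (y ^ (j - i))⁻¹ := by
      calc d = (y ^ i)⁻¹ * (y ^ i * d * (y ^ i)⁻¹) * y ^ i := by group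
        _ = (y ^ i)⁻¹ * (y ^ i * y ^ (j - i) * d * (y ^ i * y ^ (j - i))⁻¹) * y ^ i := by rw [h2]
        _ = y ^ (j - i) * d * (y ^ (j - i))⁻¹ := by group
    show y ^ (j - i) * d = d * y ^ (j - i)
    exact (eq_mul_inv_iff_mul_eq.1 h5).symm
  have h4 : (orderOf y).Coprime (j - i) := by
    rw [hy]
    exact (Nat.Prime.coprime_iff_not_dvd hr).2 fun h => by
      have := Nat.le_of_dvd (by omega) h
      omega
  obtain ⟨m, hm⟩ := exists_pow_eq_self_of_coprime h4.symm
  have h5 : Commute ((y ^ (j - i)) ^ m) d := h3.pow_left m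
  rw [hm] at h5
  exact h5.eq

/-- an element of prime order `≥ 5` commuting with `d b` commutes with `d` -/
theorem comm_of_u {y d b : Fi24} {r : ℕ} (hr : r.Prime) (h5 : 5 ≤ r) (hy : orderOf y = r) (hd : d ∈ L) (hb : b ∈ L)
    (hn : ¬ Commute d b) (hc : Commute y (d * b)) : y * d = d * y := by
  have hd2 := Cfsg.Agent.R08.FiTwentyFour.sq hd
  have hb2 := Cfsg.Agent.R08.FiTwentyFour.sq hb
  have id' : d⁻¹ = d := inv_eq_of_mul_eq_one_left hd2
  have ib : b⁻¹ = b := inv_eq_of_mul_eq_one_left hb2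
  refine comm_of_few hr h5 hy (M := {d, b, d * b * d}) (Set.toFinite _) ?_ ?_
  · have h1 : ({d, b, d * b * d} : Set Fi24).ncard ≤ 3 := by
      refine (Set.ncard_insert_le _ _).trans ?_
      have := (Set.ncard_insert_le b ({d * b * d} : Set Fi24))
      rw [Set.ncard_singleton] at this
      omega
    omega
  · intro n
    have hcn : Commute (y ^ n) (d * b) := hc.pow_left n
    have h1 : (y ^ n * d * (y ^ n)⁻¹) * (d * b) * (y ^ n * d * (y ^ n)⁻¹)⁻¹ = (d * b)⁻¹ := by
      have h2 : (y ^ n)⁻¹ * (d * b) * y ^ n = d * b := by rw [mul_assoc, ← hcn.eq, inv_mul_cancel_left]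
      calc (y ^ n * d * (y ^ n)⁻¹) * (d * b) * (y ^ n * d * (y ^ n)⁻¹)⁻¹
          = y ^ n * (d * ((y ^ n)⁻¹ * (d * b) * y ^ n) * d⁻¹) * (y ^ n)⁻¹ := by group
        _ = y ^ n * (d * (d * b) * d⁻¹) * (y ^ n)⁻¹ := by rw [h2]
        _ = y ^ n * (d * b)⁻¹ * (y ^ n)⁻¹ := by
            congr 2
            rw [mul_inv_rev, id', ib, ← mul_assoc, hd2, one_mul]
        _ = (d * b)⁻¹ := by rw [hcn.inv_right.eq, mul_inv_cancel_right]
    rcases inv3 hd hb (Cfsg.Agent.R08.FiTwentyFour.conj hd (y ^ n)) hn h1 with h2 | h2 | h2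
    · rw [h2]; simp
    · rw [h2]; simp
    · rw [h2]; simp

/-! ### The twin check -/

theorem sv_exact {w : List Net} (hw : WOk 327680 w) (bs : List ℕ) {A p : ℕ} (hp : p < 327680)
    (h : (sv w bs A).testBit p = true) : A.testBit p = true ∧ ∀ b ∈ bs, b < 19 → (wperm w p).testBit b = p.testBit b := by
  induction bs generalizing A with
  | nil => exact ⟨h, fun b hb => absurd hb (by simp)⟩
  | cons b bs ih =>
    rw [sv_cons] at h
    obtain ⟨h1, h2⟩ := ih h
    rw [Nat.testBit_xor, Nat.testBit_and, Nat.testBit_xor, testBit_appWord hw] at h1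
    have hA : A.testBit p = true := by
      by_contra hc
      rw [Bool.not_eq_true] at hc
      rw [hc] at h1
      simp at h1
    refine ⟨hA, ?_⟩
    rw [hA] at h1
    intro c hc hc19
    rcases List.mem_cons.1 hc with rfl | hc
    · have hlt : (327680 : ℕ) < 2 ^ 19 := by norm_num
      have hq := wperm_lt hw hp
      rw [testBit_plane 19 c _ (by omega) hc19, testBit_plane 19 c _ (by omega) hc19] at h1
      revert h1
      cases (wperm w p).testBit c <;> cases p.testBit c <;> simp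
    · exact h2 c hc hc19

theorem sv_fixed {w : List Net} (hw : WOk 327680 w) {A p : ℕ} (hp : p < 327680)
    (h : (sv w bl A).testBit p = true) : wperm w p = p := by
  obtain ⟨-, h2⟩ := sv_exact hw bl hp h
  apply Nat.eq_of_testBit_eq
  intro b
  have hq := wperm_lt hw hp
  by_cases hb : b < 19
  · exact h2 b (by unfold bl; interval_cases b <;> simp) hb
  · have hk : 2 ^ 19 ≤ 2 ^ b := Nat.pow_le_pow_right (by norm_num) (by omega)
    have h3 : (327680 : ℕ) ≤ 2 ^ 19 := by norm_num
    rw [Nat.testBit_lt_two_pow (lt_of_lt_of_le (lt_of_lt_of_le hq h3) hk),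
      Nat.testBit_lt_two_pow (lt_of_lt_of_le (lt_of_lt_of_le hp h3) hk)]

theorem lt_of_UG {p : ℕ} (hp : UG.testBit p = true) : p < 327680 := Cfsg.Agent.KFacts.FiTF.FixZ.lt_of_UG hp

theorem mem_fxm {v : List Gen} {c : Gen} {p : ℕ} (hp : UG.testBit p = true) :
    (fxm v c).testBit p = true ↔ rho (tr v c) p = p := by
  have h1 : fxm v c = appWord (nw v.reverse false) (sv (nw [c] false) bl UG) := by
    unfold fxm
    rw [seq_eq]
  have hq : UG.testBit (rho (word v)⁻¹ p) = true := UG_rho hp _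
  have e : rho (tr v c) p = p ↔ rho (gen c) (rho (word v)⁻¹ p) = rho (word v)⁻¹ p := by
    rw [tr_eq, map_mul, map_mul, Equiv.Perm.mul_apply, Equiv.Perm.mul_apply]
    constructor
    · intro h
      have h2 := congrArg (rho (word v)⁻¹) h
      rw [← Equiv.Perm.mul_apply, ← map_mul, inv_mul_cancel, map_one, Equiv.Perm.one_apply] at h2
      exact h2
    · intro h
      rw [h, ← Equiv.Perm.mul_apply, ← map_mul, mul_inv_cancel, map_one, Equiv.Perm.one_apply]
  rw [h1, testBit_appWord (wok _ _), ← rho_word, word_reverse, e]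
  constructor
  · intro h
    have h2 := sv_fixed (wok _ _) (lt_of_UG hq) h
    rwa [← rho_word, word_one'] at h2
  · intro h
    apply sv_spec (wok _ _) bl hq
    rw [← rho_word, word_one']
    exact h

theorem twB_spec {A : ℕ} {vd ve : List Gen} {cd ce : Gen} {pd pe : ℕ} (h : twB A vd cd pd ve ce pe = true) {p : ℕ}
    (hp : UG.testBit p = true) (hAp : A.testBit p = true) (hpe : UG.testBit pe = true) (hApe : A.testBit pe = true)
    (hee : rho (tr ve ce) pe = pe) (h1 : p ≠ pd) (h2 : rho (tr vd cd) p = p) : p ≠ pe ∧ rho (tr ve ce) p = p := by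
  unfold twB at h
  rw [seqB_eq, seqB_eq] at h
  have h4 : ((A &&& fxm vd cd) ^^^ 2 ^ pd) = ((A &&& fxm ve ce) ^^^ 2 ^ pe) := Nat.eq_of_beq_eq_true h
  have hM : (A &&& fxm vd cd).testBit p = true := by
    rw [Nat.testBit_and, hAp, (mem_fxm hp).2 h2]; rfl
  have hMe : (A &&& fxm ve ce).testBit pe = true := by
    rw [Nat.testBit_and, hApe, (mem_fxm hpe).2 hee]; rfl
  have h5 : ((A &&& fxm ve ce) ^^^ 2 ^ pe).testBit p = true := by
    rw [← h4, Nat.testBit_xor, hM, Nat.testBit_two_pow_of_ne (Ne.symm h1)]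
    rfl
  have h6 : p ≠ pe := by
    rintro rfl
    rw [Nat.testBit_xor, hMe, Nat.testBit_two_pow_self] at h5
    simp at h5
  refine ⟨h6, ?_⟩
  rw [Nat.testBit_xor, Nat.testBit_two_pow_of_ne (Ne.symm h6), Bool.xor_false, Nat.testBit_and, Bool.and_eq_true] at h5
  exact (mem_fxm hp).1 h5.2

theorem twB_symm {A : ℕ} {vd ve : List Gen} {cd ce : Gen} {pd pe : ℕ} (h : twB A vd cd pd ve ce pe = true) :
    twB A ve ce pe vd cd pd = true := by
  unfold twB at h ⊢
  rw [seqB_eq, seqB_eq] at h ⊢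
  rw [← Nat.eq_of_beq_eq_true h]
  exact Nat.beq_refl _

/-! ### Masks -/

theorem word_x2 : x2 = word wx2 := by
  show word [.j] * word [.g] * (word [.e] * word [.d]) = word [.j, .g, .e, .d]
  simp only [word_cons, word_nil, mul_one, mul_assoc]

theorem word_x3 : x3 = word wx3 := by
  show word [.j] * word [.g] * (word [.e] * word [.d]) * (word [.i] * word (SNineK.uw ++ Gen.c :: SNineK.uw.reverse)) =
    word (([.j, .g, .e, .d, .i] : List Cfsg.Spor.Fi24.Gen) ++ (SNineK.uw ++ Gen.c :: SNineK.uw.reverse))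
  rw [word_append [.j, .g, .e, .d, .i]]
  simp only [word_cons, word_nil, mul_one, mul_assoc]

theorem mask2 {p : ℕ} (hp : UG.testBit p = true) (h : rho x2 p = p) : M2.testBit p = true := by
  rw [← Nat.eq_of_beq_eq_true st2]
  apply sv_spec (wok _ _) bl hp
  rw [← rho_word, ← word_x2]
  exact h

theorem mask3 {p : ℕ} (hp : UG.testBit p = true) (h : rho x3 p = p) : M3.testBit p = true := by
  have hw : wperm (nw wx3 false) p = p := by
    rw [← rho_word, ← word_x3]
    exact h
  have h1 := sv_spec (wok wx3 false) [0, 1] hp hw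
  rw [Nat.eq_of_beq_eq_true st3a] at h1
  have h2 := sv_spec (wok wx3 false) [2, 3] h1 hw
  rw [Nat.eq_of_beq_eq_true st3b] at h2
  have h3 := sv_spec (wok wx3 false) [4, 5] h2 hw
  rw [Nat.eq_of_beq_eq_true st3c] at h3
  have h4 := sv_spec (wok wx3 false) [6, 7] h3 hw
  rw [Nat.eq_of_beq_eq_true st3d] at h4
  have h5 := sv_spec (wok wx3 false) [8, 9] h4 hw
  rw [Nat.eq_of_beq_eq_true st3e] at h5
  have h6 := sv_spec (wok wx3 false) [10, 11] h5 hw
  rw [Nat.eq_of_beq_eq_true st3f] at h6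
  have h7 := sv_spec (wok wx3 false) [12, 13] h6 hw
  rw [Nat.eq_of_beq_eq_true st3g] at h7
  have h8 := sv_spec (wok wx3 false) [14, 15] h7 hw
  rw [Nat.eq_of_beq_eq_true st3h] at h8
  have h9 := sv_spec (wok wx3 false) [16, 17] h8 hw
  rwa [Nat.eq_of_beq_eq_true st3i] at h9

/-! ### Twins -/

theorem tw_of {x : Fi24} {A : ℕ} (hA : ∀ p, UG.testBit p = true → rho x p = p → A.testBit p = true)
    {vd ve : List Gen} {cd ce : Gen} {pd pe : ℕ} (hd : IsPt (tr vd cd) pd) (he : IsPt (tr ve ce) pe)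
    (hxd : rho x pd = pd) (hxe : rho x pe = pe) (h : twB A vd cd pd ve ce pe = true)
    (md : tr vd cd ∈ centralizer ({x} : Set Fi24)) (me : tr ve ce ∈ centralizer ({x} : Set Fi24)) :
    Tw (DX (centralizer ({x} : Set Fi24))) ⟨tr vd cd, md⟩ ⟨tr ve ce, me⟩ := by
  have key : ∀ {vd ve : List Gen} {cd ce : Gen} {pd pe : ℕ}, IsPt (tr vd cd) pd → IsPt (tr ve ce) pe →
      rho x pd = pd → rho x pe = pe → twB A vd cd pd ve ce pe = true →
      ∀ (md : tr vd cd ∈ centralizer ({x} : Set Fi24)) (me : tr ve ce ∈ centralizer ({x} : Set Fi24)),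
      Nb (DX (centralizer ({x} : Set Fi24))) ⟨tr vd cd, md⟩ ⊆ Nb (DX (centralizer ({x} : Set Fi24))) ⟨tr ve ce, me⟩ := by
    intro vd ve cd ce pd pe hd he hxd hxe h md me f hf
    obtain ⟨h1, h2, h3⟩ := hf
    have h1' : (f : Fi24) ∈ L := h1
    obtain ⟨p, hp⟩ := exists_pt h1'
    have hU := bit hp
    have hfx : x * (f : Fi24) = (f : Fi24) * x := (mem_centralizer_singleton_iff.1 f.2).symm
    have hxp : rho x p = p := (hp.comm_iff x).1 hfx
    have h4 : p ≠ pd := by
      rintro rfl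
      exact h2 (Subtype.ext (hp.inj hd))
    have h5 : Commute (tr vd cd) (f : Fi24) := congrArg Subtype.val h3
    have h6 : rho (tr vd cd) p = p := (hp.comm_iff _).1 h5
    have h7 : rho (tr ve ce) pe = pe := (he.comm_iff _).1 (Commute.refl _)
    obtain ⟨h8, h9⟩ := twB_spec h hU (hA p hU hxp) (bit he) (hA pe (bit he) hxe) h7 h4 h6
    refine ⟨h1, ?_, ?_⟩
    · intro h10
      apply h8
      have h11 : (f : Fi24) = tr ve ce := congrArg Subtype.val h10
      rw [h11] at hp
      exact hp.uniq he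
    · exact Subtype.ext ((hp.comm_iff _).2 h9)
  exact Set.Subset.antisymm (key hd he hxd hxe h md me) (key he hd hxe hxd (twB_symm h) me md)

theorem tr_nil (x : Gen) : tr [] x = gen x := word_one' x

/-- the pairs of twins -/
theorem pair {x : Fi24} {A : ℕ} (hA : ∀ p, UG.testBit p = true → rho x p = p → A.testBit p = true)
    {c : Gen} {ve : List Gen} {ce : Gen} {pe q : ℕ} (he : IsPt (tr ve ce) pe) (hc : rho x (pn c) = pn c)
    (hxe : rho x pe = pe) (h : twB A [] c (pn c) ve ce pe = true) (hn : chkPt (nw [c] false) pe q = true) (hq : q ≠ pe)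
    {r : ℕ} (hr : r.Prime) (h5 : 5 ≤ r) {y : ↥(centralizer ({x} : Set Fi24))} (hy : orderOf y = r)
    (hcy : ∀ w ∈ Subgroup.closure (Pr (DX (centralizer ({x} : Set Fi24)))), w * y = y * w) :
    (y : Fi24) * gen c = gen c * (y : Fi24) := by
  have hd : IsPt (tr [] c) (pn c) := by rw [tr_nil]; exact isPt_gen c
  have md : tr [] c ∈ centralizer ({x} : Set Fi24) := mem_centralizer_singleton_iff.2 ((hd.comm_iff x).2 hc).symm
  have me : tr ve ce ∈ centralizer ({x} : Set Fi24) := mem_centralizer_singleton_iff.2 ((he.comm_iff x).2 hxe).symm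
  have ht := tw_of hA hd he hc hxe h md me
  have hnc : ¬ Commute (gen c) (tr ve ce) := by
    intro h1
    have h2 : rho (gen c) pe = pe := (he.comm_iff _).1 h1
    have h3 := rho_of_chkPt hn
    rw [word_one', h2] at h3
    exact hq h3.symm
  have h1 : (⟨tr [] c, md⟩ * ⟨tr ve ce, me⟩ : ↥(centralizer ({x} : Set Fi24))) ∈
      Subgroup.closure (Pr (DX (centralizer ({x} : Set Fi24)))) := by
    apply Subgroup.subset_closure
    refine ⟨_, hd.mem, _, he.mem, ht, Or.inr ?_, rfl⟩
    intro h2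
    apply hnc
    have h3 : tr [] c * tr ve ce = tr ve ce * tr [] c := congrArg Subtype.val h2
    rw [tr_nil] at h3
    exact h3
  have h2 := congrArg Subtype.val (hcy _ h1)
  have h3 : tr [] c * tr ve ce * (y : Fi24) = (y : Fi24) * (tr [] c * tr ve ce) := h2
  rw [tr_nil] at h3
  have hy' : orderOf (y : Fi24) = r := by rw [Subgroup.orderOf_coe]; exact hy
  exact comm_of_u hr h5 hy' (gen_mem c) he.mem hnc h3.symm

theorem no_comp_aux {x : Fi24} (hx : x = x2 ∨ x = x3) {A : ℕ}
    (hA : ∀ p, UG.testBit p = true → rho x p = p → A.testBit p = true)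
    (hl : rho x 306929 = 306929) (hk : rho x 293173 = 293173) (ha : rho x 2460 = 2460) (hb : rho x 821 = 821)
    (tl : twB A [] .l 0 vl .k 306929 = true) (tk : twB A [] .k 307872 vk .k 293173 = true)
    (ta : twB A [] .a 1 va .a 2460 = true) (tb : twB A [] .b 193 vb .b 821 = true)
    (K : Subgroup (↥(centralizer ({x} : Set Fi24)) ⧸ pPrimeCore 3 ↥(centralizer ({x} : Set Fi24))))
    (hK : IsComponent K) : False := by
  have := Cfsg.Agent.R08.FiTwentyFour.finite_Fi24
  have hO := Lib.Cores.pPrimeCore_normal (G := ↥(centralizer ({x} : Set Fi24))) 3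
  have : Fact (Nat.Prime 3) := ⟨Nat.prime_three⟩
  have hxS : x ∈ S9 := by
    rcases hx with rfl | rfl
    · exact x2_mem
    · exact x3_mem
  have hP := isPGroup_twins (tset (centralizer ({x} : Set Fi24)))
  have hN := normal_twins (tset (centralizer ({x} : Set Fi24)))
  obtain ⟨r, hr, h5, y, hy, hcy⟩ := CompB.exists_prime_comm
    (Lib.Cores.pPrimeCore_coprime (G := ↥(centralizer ({x} : Set Fi24))) 3) hK hP
    (CompB.comm_of_normal' hK hN hP)
  have hfix : ∀ c : Gen, c = .l ∨ c = .k ∨ c = .a ∨ c = .b → rho x (pn c) = pn c := fun c hc =>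
    fix_of_comm (S9_comm hxS c hc)
  have c1 := pair hA (isPt_tr (x := .k) pt_l) (hfix .l (by simp)) hl tl (q := 306897) (by decide +kernel) (by norm_num) hr h5 hy hcy
  have c2 := pair hA (isPt_tr (x := .k) pt_k) (hfix .k (by simp)) hk tk (q := 293237) (by decide +kernel) (by norm_num) hr h5 hy hcy
  have c3 := pair hA (isPt_tr (x := .a) pt_a) (hfix .a (by simp)) ha ta (q := 2461) (by decide +kernel) (by norm_num) hr h5 hy hcy
  have c4 := pair hA (isPt_tr (x := .b) pt_b) (hfix .b (by simp)) hb tb (q := 2481) (by decide +kernel) (by norm_num) hr h5 hy hcy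
  have hy' : orderOf (y : Fi24) = r := by rw [Subgroup.orderOf_coe]; exact hy
  exact no_prime hx hr h5 hy' (mem_centralizer_singleton_iff.1 y.2) c1 c2 c3 c4

/-- **`C(x2)/O` and `C(x3)/O` have no components.** -/
theorem no_comp {x : Fi24} (hx : x = x2 ∨ x = x3)
    (K : Subgroup (↥(centralizer ({x} : Set Fi24)) ⧸ pPrimeCore 3 ↥(centralizer ({x} : Set Fi24)))) : ¬ IsComponent K := by
  intro hK
  rcases hx with rfl | rfl
  · have h1 := fx2
    simp only [Bool.and_eq_true] at h1
    obtain ⟨a1, a2, a3, a4⟩ := h1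
    have e : ∀ p, chkPt (nw wx2 false) p p = true → rho x2 p = p := by
      intro p h
      rw [word_x2]
      exact rho_of_chkPt h
    exact no_comp_aux (Or.inl rfl) (fun p => mask2) (e _ a1) (e _ a2) (e _ a3) (e _ a4) tw2l tw2k tw2a tw2b K hK
  · have h1 := fx3
    simp only [Bool.and_eq_true] at h1
    obtain ⟨a1, a2, a3, a4⟩ := h1
    have e : ∀ p, chkPt (nw wx3 false) p p = true → rho x3 p = p := by
      intro p h
      rw [word_x3]
      exact rho_of_chkPt h
    exact no_comp_aux (Or.inr rfl) (fun p => mask3) (e _ a1) (e _ a2) (e _ a3) (e _ a4) tw3l tw3k tw3a tw3b K hK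

end Cfsg.Agent.LThreeFi24.CaseB
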